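import Cfsg.Agent.H92.LeechOrbit

/-!
A cheaper way to follow a packed vector through a word: every intermediate code is evaluated once
and a sextet step reads the tetrads from a literal table.
-/

set_option autoImplicit false

namespace Cfsg.Agent.H40.Co

open Cfsg Cfsg.Agent.Golay Cfsg.Agent.H92.LeechOrbit

/-- Apply `k` to the evaluated number. -/
noncomputable def force {α : Type} (n : ℕ) (k : ℕ → α) : α :=
  Nat.rec (motive := fun _ => α) (k 0) (fun p _ => k (Nat.succ p)) n

theorem force_eq {α : Type} (n : ℕ) (k : ℕ → α) : force n k = k n := by cases n <;> rfl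

/-- The field at a position. -/
noncomputable def fldF (n i : ℕ) : ℕ := Nat.land (Nat.shiftRight n (Nat.mul 4 i)) 15

theorem fldF_eq (n i : ℕ) : fldF n i = fld n i := rfl

/-- The positions of the tetrads. -/
def tetLit : List (List ℕ) :=
  [[0, 1, 2, 23], [3, 5, 14, 17], [8, 11, 12, 18], [9, 10, 15, 20], [6, 7, 19, 21], [4, 13, 16, 22]]

/-- Half the sum of the fields at four positions. -/
noncomputable def halfSum (n : ℕ) (l : List ℕ) : ℕ :=
  Nat.div (List.rec (motive := fun _ => ℕ) 0 (fun i _ acc => Nat.add (fldF n i) acc) l) 2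

theorem halfSum_eq (n : ℕ) (l : List ℕ) : halfSum n l = (l.map fun i => fld n i).sum / 2 := by
  have h : ∀ l : List ℕ, (List.rec (motive := fun _ => ℕ) 0
      (fun i _ acc => Nat.add (fldF n i) acc) l : ℕ) = (l.map fun i => fld n i).sum := by
    intro l
    induction l with
    | nil => rfl
    | cons a l ih => rw [List.map_cons, List.sum_cons, ← ih]; rfl
  show (List.rec (motive := fun _ => ℕ) 0 (fun i _ acc => Nat.add (fldF n i) acc) l : ℕ) / 2 = _
  rw [h]

/-- The fields written by a sextet step in the tetrad at position `k` of the table. -/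
noncomputable def zPart (n : ℕ) (first : Bool) (l : List ℕ) (h : ℕ) : ℕ :=
  List.rec (motive := fun _ => ℕ) 0 (fun i _ acc => Nat.add acc (Nat.shiftLeft
    (bif first then Nat.sub (Nat.add 16 (fldF n i)) h else Nat.sub h (fldF n i)) (Nat.mul 4 i))) l

/-- The image of a code under a sextet step. -/
noncomputable def zStep (n : ℕ) : ℕ :=
  Nat.add (force (halfSum n [0, 1, 2, 23]) fun h => zPart n true [0, 1, 2, 23] h)
    (List.rec (motive := fun _ => ℕ) 0 (fun l _ acc => Nat.add acc
      (force (halfSum n l) fun h => zPart n false l h)) tetLit.tail)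

/-- The equations of a sextet step in a tetrad. -/
noncomputable def zRow (n m : ℕ) (first : Bool) (l : List ℕ) : Bool :=
  force (halfSum n l) fun h => l.all fun i =>
    bif first then Nat.beq (Nat.add (fldF m i) h) (Nat.add 16 (fldF n i))
    else Nat.beq (Nat.add (fldF m i) (fldF n i)) h

/-- The equations of a sextet step. -/
noncomputable def zOK (n m : ℕ) : Bool :=
  zRow n m true [0, 1, 2, 23] && tetLit.tail.all fun l => zRow n m false l

theorem tetLit_spec : ∀ i < 24, tetOf i < 6 ∧ tetPts (tetOf i) = tetLit.getD (tetOf i) [] ∧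
    (tetLit.getD (tetOf i) []).contains i = true := by
  decide +kernel

theorem zetaRel_of_zOK {n m : ℕ} (h : zOK n m = true) : zetaRel n m = true := by
  simp only [zOK, zRow, force_eq, Bool.and_eq_true, List.all_eq_true] at h
  obtain ⟨h0, hr⟩ := h
  simp only [zetaRel, List.all_eq_true, List.mem_range]
  intro i hi
  obtain ⟨ht, hp, hc⟩ := tetLit_spec i hi
  have hm := List.contains_iff_mem.1 hc
  rw [show H92.LeechOrbit.tsum n (tetOf i) = ((tetLit.getD (tetOf i) []).map fun i => fld n i).sum from congrArg (fun l => (List.map (fun i => fld n i) l).sum) hp]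
  by_cases ht0 : tetOf i = 0
  · rw [ht0] at hm ⊢
    have e := h0 i hm
    simp only [cond_true] at e
    have e' : fld m i + halfSum n [0, 1, 2, 23] = 16 + fld n i := Nat.eq_of_beq_eq_true e
    rw [halfSum_eq] at e'
    simp only [beq_self_eq_true, cond_true, beq_iff_eq]
    exact e'
  · have hl : tetLit.getD (tetOf i) [] ∈ tetLit.tail := by
      obtain ⟨k, hk⟩ := Nat.exists_eq_succ_of_ne_zero ht0
      rw [hk]
      have hk5 : k < 5 := by omega
      interval_cases k <;> simp [tetLit]
    have e := hr _ hl i hm
    simp only [cond_false] at e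
    have e' : fld m i + fld n i = halfSum n (tetLit.getD (tetOf i) []) := Nat.eq_of_beq_eq_true e
    rw [halfSum_eq] at e'
    rw [show (tetOf i == 0) = false from beq_false_of_ne ht0]
    simp only [cond_false, beq_iff_eq]
    exact e'

/-- The image under a step. -/
noncomputable def stepF : Atom → ℕ → ℕ
  | .mono _ S T, n => monoApp S T n
  | .zeta, n => zStep n

/-- A step is valid at a code. -/
noncomputable def stepOK : Atom → ℕ → ℕ → Bool
  | .mono _ _ _, n, _ => nzOK n
  | .zeta, n, m => zOK n m

/-- The image under a word. -/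
noncomputable def runW : List Atom → ℕ → ℕ
  | [], n => n
  | a :: r, n => force (stepF a n) (runW r)

/-- All steps of a word are valid. -/
noncomputable def goodW : List Atom → ℕ → Bool
  | [], _ => true
  | a :: r, n => force (stepF a n) fun m => stepOK a n m && goodW r m

theorem rel_stepF {a : Atom} {n : ℕ} (h : stepOK a n (stepF a n) = true) :
    rel a n (stepF a n) = true := by
  cases a with
  | mono s S T =>
    show (nzOK n && Nat.beq (monoApp S T n) (monoApp S T n)) = true
    rw [Nat.beq_refl, Bool.and_true]
    exact h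
  | zeta => exact zetaRel_of_zOK h

theorem goodW_sound : ∀ {w : List Atom} {n : ℕ}, w.all atomOK = true → goodW w n = true →
    ∀ {v : leechLattice}, v.1 = dec n → (wordEl w • v : leechLattice).1 = dec (runW w n)
  | [], n, _, _, v, hv => by rw [wordEl, one_smul, hv]; rfl
  | a :: r, n, hok, h, v, hv => by
    rw [List.all_cons, Bool.and_eq_true] at hok
    rw [goodW, force_eq, Bool.and_eq_true] at h
    rw [wordEl, mul_smul, runW, force_eq]
    exact goodW_sound hok.2 h.2 (rel_sound hok.1 (rel_stepF h.1) hv)

end Cfsg.Agent.H40.Co
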