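import Cfsg.Agent.H40.Co.FiveCheck

/-!
Co0 has no stem extension with kernel of order five: an inverted elementary abelian subgroup of
order 125 extended by an element of order five commuting with the inverting involution.
-/

set_option autoImplicit false

namespace Cfsg.Agent.H40.Co

open Cfsg Cfsg.Agent.Golay Cfsg.Agent.H92.LeechOrbit Cfsg.Agent.Linear.Mult

attribute [local irreducible] wordEl fiveGens fiveTop fiveInv fiveWit eqP conjOK fiveConj fiveChain

theorem noStem_five : NoStem 5 Co0 := by
  have hp : Nat.Prime 5 := by norm_num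
  haveI := Fact.mk hp
  have h := five_ok
  simp only [Bool.and_eq_true] at h
  obtain ⟨⟨⟨⟨hok, hti⟩, hwi⟩, htop⟩, hlen⟩ := h
  have hlen : fiveGens.length = 3 := Nat.eq_of_beq_eq_true hlen
  have hinv := five_inv
  simp only [Bool.and_eq_true, List.all_eq_true] at hinv
  obtain ⟨htt, hinv⟩ := hinv
  set t := wordEl fiveInv with ht
  set s := wordEl fiveTop with hs
  have htt' : t * t = 1 := by
    simpa using eq_of_eqP (fun w hw => by
      simp only [List.mem_cons, List.not_mem_nil, or_false, or_self] at hw
      rw [hw]; exact hti) (by simp) htt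
  have hA : ∀ i < 3, t * gen fiveGens i * t⁻¹ = (gen fiveGens i)⁻¹ := by
    intro i hi
    have e := eq_of_eqP (fun w hw => by
      simp only [List.mem_cons, List.not_mem_nil, or_false] at hw
      rcases hw with rfl | rfl | rfl
      · exact hti
      · exact ok_nth hok i
      · exact hti) (fun w hw => by rw [List.eq_of_mem_replicate hw]; exact ok_nth hok i)
      (hinv (nth fiveGens i) (by rw [nth, List.getD_eq_getElem _ _ (by omega)]; exact List.getElem_mem _))
    simp only [List.map_cons, List.map_nil, List.prod_cons, List.prod_nil, mul_one,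
      List.map_replicate, List.prod_replicate] at e
    rw [show t⁻¹ = t from inv_eq_of_mul_eq_one_right htt', mul_assoc, eq_inv_iff_mul_eq_one]
    show t * (gen fiveGens i * t) * gen fiveGens i = 1
    rw [show t * (gen fiveGens i * t) = gen fiveGens i ^ 4 from e, ← pow_succ]
    exact gen_pow hok five_pow (by omega)
  have hwit := five_wit
  simp only [List.all_eq_true, List.mem_range] at hwit
  have hW : ∀ i < 3, wordEl fiveWit * gen fiveGens i * (wordEl fiveWit)⁻¹ = gen fiveGens i ^ 2 := by
    intro i hi
    rw [gen, conj_of_conjOK hok hwi (ok_nth hok i) (hwit i hi)]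
    simp [gen, pow_two]
  have htp := five_top
  simp only [Bool.and_eq_true] at htp
  have hs5 : s ^ 5 = 1 := by
    have e := eq_of_eqP (L := List.replicate 5 fiveTop) (M := [])
      (fun w hw => by rw [List.eq_of_mem_replicate hw]; exact htop) (by simp) htp.1
    rwa [List.map_replicate, List.prod_replicate, List.map_nil, List.prod_nil, ← hs] at e
  have hts : Commute t s := by
    simpa [Commute, SemiconjBy] using eq_of_eqP (fun w hw => by
      simp only [List.mem_cons, List.not_mem_nil, or_false] at hw
      rcases hw with rfl | rfl <;> assumption) (fun w hw => by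
      simp only [List.mem_cons, List.not_mem_nil, or_false] at hw
      rcases hw with rfl | rfl <;> assumption) htp.2
  have hs1 : s ≠ 1 := by
    intro e
    obtain ⟨k, -, hk⟩ := List.any_eq_true.1 five_top_moves
    exact notMem_setFixes htop hk (show s ∈ setFixes _ from e ▸ one_mem _)
  have hconj := five_conj
  simp only [List.all_eq_true, List.mem_range, Bool.and_eq_true, decide_eq_true_eq] at hconj
  refine noStem_of_killed hp fun Γ _ _ E => ?_
  set A : Set Co0 := gen fiveGens '' {j | j < 3} with hAdef
  have hAA : ∀ a ∈ A, ∀ b ∈ A, E.cm a b = 1 := by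
    rintro _ ⟨i, hi, rfl⟩ _ ⟨j, hj, rfl⟩
    exact cm_eq_one_of_power E (gen_comm hok five_comm (by rw [hlen]; exact hi) (by rw [hlen]; exact hj))
      (hW i hi) (hW j hj) (by decide)
  have hstep : ∀ a ∈ A, s * a * s⁻¹ ∈ Subgroup.closure A := by
    rintro _ ⟨i, hi, rfl⟩
    rw [hs, gen, conj_of_conjOK hok htop (ok_nth hok i) (hconj i hi).2]
    exact prod_gen_mem (hconj i hi).1
  have hmem : ∀ a ∈ Subgroup.closure A, s * a * s⁻¹ ∈ Subgroup.closure A := fun a ha =>
    ((Subgroup.closure_le ((Subgroup.closure A).comap (MulAut.conj s).toMonoidHom)).2 hstep) ha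
  have hnorm : ∀ k ∈ Subgroup.zpowers s, ∀ a ∈ A, k * a * k⁻¹ ∈ Subgroup.closure A := by
    intro k hk a ha
    obtain ⟨n, rfl⟩ : k ∈ Submonoid.powers s := mem_powers_iff_mem_zpowers.2 hk
    show s ^ n * a * (s ^ n)⁻¹ ∈ Subgroup.closure A
    induction n with
    | zero => simpa using Subgroup.subset_closure ha
    | succ n ih =>
      have := hmem _ (ih (pow_mem (Subgroup.mem_zpowers s) n))
      have e : s ^ (n + 1) * a * (s ^ (n + 1))⁻¹ = s * (s ^ n * a * (s ^ n)⁻¹) * s⁻¹ := by
        rw [pow_succ']; group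
      rwa [e]
  have hot : orderOf t ∣ 2 := orderOf_dvd_of_pow_eq_one (by rw [pow_two, htt'])
  have hTK : ∀ k ∈ Subgroup.zpowers s, Commute t k ∧ E.cm t k = 1 := by
    intro k hk
    rw [Subgroup.zpowers_eq_closure] at hk
    refine cm_eq_one_of_closure E (S := {s}) ?_ k hk
    rintro x rfl
    refine ⟨hts, E.cm_eq_one_of_coprime hts ?_⟩
    exact Nat.Coprime.coprime_dvd_left hot
      (Nat.Coprime.coprime_dvd_right (orderOf_dvd_of_pow_eq_one hs5) (by norm_num))
  obtain ⟨hk, hc⟩ := killed_inverted_extended E (by norm_num) A (Subgroup.zpowers s) t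
    (by rintro _ ⟨i, hi, rfl⟩; exact hA i hi)
    (by rintro _ ⟨i, hi, rfl⟩; exact gen_pow hok five_pow (by rw [hlen]; exact hi))
    hAA (LExt.killed_zpowers s) hTK hnorm
  refine ⟨_, hk, fun hd => ?_⟩
  have h3 := pow_dvd_card_gens hp (l := 5) hok five_pow five_comm five_chain
  rw [hlen] at h3
  have h4 : 5 ^ 4 ∣ Nat.card ↥(Subgroup.closure A ⊔ Subgroup.zpowers s : Subgroup Co0) := by
    rw [hc, Nat.card_zpowers, orderOf_eq_prime hs5 hs1, show (5 : ℕ) ^ 4 = 5 ^ 3 * 5 from rfl]
    exact Nat.mul_dvd_mul h3 dvd_rfl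
  have := Nat.mul_dvd_mul h4 hd
  rw [Subgroup.card_mul_index, card_co0] at this
  norm_num at this

end Cfsg.Agent.H40.Co
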