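import Cfsg.Agent.H95.KilledInverted
import Cfsg.Agent.H34.SylCert.Sound

/-!
An inverted abelian subgroup extended by a killed subgroup centralised by the inverting element is
killed.
-/

set_option autoImplicit false

namespace Cfsg.Agent.H40.Co

open Cfsg.Agent.Linear.Mult Cfsg.Agent.H95.KilledInverted
open scoped commutatorElement

variable {l : ℕ} {X G : Type*} [Group X] [Group G] (E : LExt l X G)

theorem cm_pow_left {g h : G} (hgh : Commute g h) :
    ∀ m : ℕ, E.cm (g ^ m) h = E.cm g h ^ m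
  | 0 => by rw [pow_zero, pow_zero, E.cm_one_left]
  | m + 1 => by
    rw [pow_succ', E.cm_mul_left_of_commute (hgh.pow_left m), cm_pow_left hgh m, pow_succ]

theorem cm_pow_right {g h : G} (hgh : Commute g h) :
    ∀ m : ℕ, E.cm g (h ^ m) = E.cm g h ^ m
  | 0 => by rw [pow_zero, pow_zero, E.cm_one_right]
  | m + 1 => by rw [pow_succ, E.cm_mul_right_of_commute hgh, cm_pow_right hgh m, pow_succ]

/-- An element raising commuting elements to powers, with product of exponents not one modulo
`l`, makes their lifts commute. -/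
theorem cm_eq_one_of_power {a b g : G} (hab : Commute a b) {i j : ℕ}
    (ha : g * a * g⁻¹ = a ^ i) (hb : g * b * g⁻¹ = b ^ j) (hij : i * j % l ≠ 1) :
    E.cm a b = 1 := by
  obtain ⟨y, rfl⟩ := E.surj g
  have hz : E.proj (E.cm a b) = 1 := by
    rw [E.proj_cm, commutatorElement_eq_one_iff_commute.2 hab]
  have hc := E.conj_cm (y := y) rfl a b
  rw [E.ker_central hz y, mul_inv_cancel_right, ha, hb, cm_pow_left E (hab.pow_right j) i,
    cm_pow_right E hab j, ← pow_mul, mul_comm] at hc
  by_contra hne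
  haveI := Fact.mk E.hl
  have ho : orderOf (E.cm a b) = l := orderOf_eq_prime (E.ker_pow hz) hne
  have h1 : E.cm a b ^ (i * j) = E.cm a b ^ 1 := by rw [pow_one]; exact hc.symm
  rw [pow_inj_mod, ho, Nat.mod_eq_of_lt (a := 1) E.hl.one_lt] at h1
  exact hij h1

/-- An element commuting with the generators of `K`, with commuting lifts, has commuting lifts
with all of `K`. -/
theorem cm_eq_one_of_closure {t : G} {S : Set G}
    (hS : ∀ s ∈ S, Commute t s ∧ E.cm t s = 1) :
    ∀ k ∈ Subgroup.closure S, Commute t k ∧ E.cm t k = 1 := by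
  intro k hk
  induction hk using Subgroup.closure_induction with
  | mem x hx => exact hS x hx
  | one => exact ⟨Commute.one_right t, E.cm_one_right t⟩
  | mul x y _ _ ihx ihy =>
    exact ⟨ihx.1.mul_right ihy.1,
      by rw [E.cm_mul_right_of_commute ihy.1, ihx.2, ihy.2, one_mul]⟩
  | inv x _ ihx =>
    refine ⟨ihx.1.inv_right, ?_⟩
    have h := E.cm_mul_right_of_commute (g := t) (h := x) ihx.1.inv_right
    rwa [mul_inv_cancel, E.cm_one_right, ihx.2, one_mul, eq_comm] at h

/-- An abelian subgroup inverted by `t`, extended by a killed subgroup centralised by `t`. -/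
theorem killed_inverted_extended [Finite X] (hl : l ≠ 2) (A : Set G) (K : Subgroup G) (t : G)
    (hA : ∀ a ∈ A, t * a * t⁻¹ = a⁻¹) (hAl : ∀ a ∈ A, a ^ l = 1)
    (hAA : ∀ a ∈ A, ∀ b ∈ A, E.cm a b = 1) (hK : E.Killed K)
    (hTK : ∀ k ∈ K, Commute t k ∧ E.cm t k = 1)
    (hnorm : ∀ k ∈ K, ∀ a ∈ A, k * a * k⁻¹ ∈ Subgroup.closure A) :
    E.Killed (Subgroup.closure A ⊔ K) ∧
      Nat.card ↥(Subgroup.closure A ⊔ K : Subgroup G) =
        Nat.card ↥(Subgroup.closure A) * Nat.card ↥K := by
  obtain ⟨T, rfl⟩ := E.surj t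
  haveI : Finite G := Finite.of_surjective _ E.surj
  set gA : Set X := {x | E.proj x ∈ A ∧ T * x * T⁻¹ = x⁻¹}
  set C := Subgroup.closure gA with hC
  have hcomm : ∀ x ∈ gA, ∀ y ∈ gA, Commute x y := fun x hx y hy =>
    E.commute_of_cm (hAA _ hx.1 _ hy.1) rfl rfl
  have hCab : ∀ x ∈ C, ∀ y ∈ C, Commute x y := by
    have h1 : C ≤ Subgroup.centralizer gA := (Subgroup.closure_le _).2 fun x hx =>
      Subgroup.mem_centralizer_iff.2 fun y hy => (hcomm y hy x hx).eq
    have h2 : C ≤ Subgroup.centralizer (C : Set X) := by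
      rw [hC, Subgroup.centralizer_closure]
      exact h1
    exact fun x hx y hy => ((Subgroup.mem_centralizer_iff.1 (h2 hy)) x hx)
  have hinv : ∀ x ∈ C, T * x * T⁻¹ = x⁻¹ := by
    intro x hx
    induction hx using Subgroup.closure_induction with
    | mem x hx => exact hx.2
    | one => group
    | mul x y hx hy ihx ihy =>
      rw [(hCab x hx y hy).eq, mul_inv_rev, ← ihx, ← ihy, ← (hCab x hx y hy).eq]
      group
    | inv x _ ihx =>
      calc T * x⁻¹ * T⁻¹ = (T * x * T⁻¹)⁻¹ := by group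
        _ = _ := by rw [ihx]
  have hmapC : C.map E.proj = Subgroup.closure A := by
    refine le_antisymm ?_ ?_
    · rw [hC, MonoidHom.map_closure, Subgroup.closure_le]
      rintro _ ⟨x, hx, rfl⟩
      exact Subgroup.subset_closure hx.1
    · rw [Subgroup.closure_le]
      intro a ha
      obtain ⟨x, rfl, hxi⟩ := exists_inverted E hl (hA a ha)
      exact ⟨x, Subgroup.subset_closure ⟨ha, hxi⟩, rfl⟩
  -- elements of exponent `l`
  have hCl : ∀ x ∈ C, E.proj x ^ l = 1 := by
    intro x hx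
    induction hx using Subgroup.closure_induction with
    | mem x hx => exact hAl _ hx.1
    | one => rw [map_one, one_pow]
    | mul x y hx hy ihx ihy =>
      rw [map_mul, ((hCab x hx y hy).map E.proj).mul_pow, ihx, ihy, one_mul]
    | inv x _ ihx => rw [map_inv, inv_pow, ihx, inv_one]
  -- inverted and centralised
  have hdis : ∀ x ∈ C, E.proj x ∈ K → E.proj x = 1 := by
    intro x hx hxK
    set a := E.proj x
    have h1 : E.proj T * a * (E.proj T)⁻¹ = a⁻¹ := by
      rw [← map_inv, ← map_mul, ← map_mul, hinv x hx, map_inv]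
    rw [(hTK a hxK).1.eq, mul_inv_cancel_right] at h1
    have h2 : a ^ 2 = 1 := by
      rw [pow_two]; nth_rewrite 2 [h1]; exact mul_inv_cancel a
    have := pow_gcd_eq_one.2 ⟨h2, hCl x hx⟩
    rwa [((Nat.coprime_primes Nat.prime_two E.hl).2 (Ne.symm hl)).gcd_eq_one, pow_one] at this
  set B := E.pre K with hB
  have hBn : B ≤ Subgroup.normalizer (C : Set X) := by
    intro y hy
    have hle : ∀ y ∈ B, C ≤ C.comap (MulAut.conj y).toMonoidHom := by
      intro y hy
      rw [hC, Subgroup.closure_le]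
      intro x hx
      rw [SetLike.mem_coe, Subgroup.mem_comap]
      show y * x * y⁻¹ ∈ C
      obtain ⟨w, hw, hwe⟩ : E.proj y * E.proj x * (E.proj y)⁻¹ ∈ C.map E.proj :=
        hmapC.symm ▸ hnorm _ hy _ hx.1
      have hcy : Commute T y := E.commute_of_cm (hTK _ hy).2 rfl rfl
      have hyi : T * (y * x * y⁻¹) * T⁻¹ = (y * x * y⁻¹)⁻¹ := by
        calc T * (y * x * y⁻¹) * T⁻¹ = (T * y) * x * (T * y)⁻¹ := by group
          _ = y * (T * x * T⁻¹) * y⁻¹ := by rw [hcy.eq]; group
          _ = _ := by rw [hx.2]; group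
      rw [← eq_of_inverted E hl (hinv w hw) hyi (by rw [hwe, map_mul, map_mul, map_inv])]
      exact hw
    rw [Subgroup.mem_normalizer_iff]
    intro x
    refine ⟨fun hx => hle y hy hx, fun hx => ?_⟩
    have h' : y⁻¹ * (y * x * y⁻¹) * y⁻¹⁻¹ ∈ C := hle y⁻¹ (inv_mem hy) hx
    have e : y⁻¹ * (y * x * y⁻¹) * y⁻¹⁻¹ = x := by group
    rwa [e] at h'
  set D := ⁅B, B⁆
  have hDn : D ≤ Subgroup.normalizer (C : Set X) := (Subgroup.commutator_le_self B).trans hBn
  have hsplit : ∀ x ∈ E.pre (Subgroup.closure A ⊔ K), ∃ c ∈ C, ∃ k ∈ B, x = c * k := by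
    intro x hx
    have hle : E.pre (Subgroup.closure A ⊔ K) ≤ C ⊔ B := by
      intro x hx
      have hx' : E.proj x ∈ (C ⊔ B).map E.proj := by
        rw [Subgroup.map_sup, hmapC, E.map_pre]; exact hx
      obtain ⟨w, hw, hwe⟩ := hx'
      have : w⁻¹ * x ∈ B := by
        show E.proj (w⁻¹ * x) ∈ K
        rw [map_mul, map_inv, hwe, inv_mul_cancel]; exact one_mem K
      simpa using mul_mem hw (Subgroup.mem_sup_right this)
    have := hle hx
    rw [← SetLike.mem_coe, Subgroup.coe_mul_of_right_le_normalizer_left C B hBn] at this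
    obtain ⟨c, hc, k, hk, rfl⟩ := this
    exact ⟨c, hc, k, hk, rfl⟩
  have hconj : ∀ k ∈ B, ∀ c ∈ C, k * c * k⁻¹ ∈ C := fun k hk c hc =>
    (Subgroup.mem_normalizer_iff.1 (hBn hk) c).1 hc
  refine ⟨fun z hz hz1 => ?_, ?_⟩
  · have hzM : z ∈ C ⊔ D := by
      have hle : ⁅E.pre (Subgroup.closure A ⊔ K), E.pre (Subgroup.closure A ⊔ K)⁆ ≤ C ⊔ D := by
        rw [Subgroup.commutator_le]
        intro x hx y hy
        obtain ⟨c, hc, k, hk, rfl⟩ := hsplit x hx
        obtain ⟨d, hd, m, hm, rfl⟩ := hsplit y hy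
        have e : ⁅c * k, d * m⁆ =
            c * (k * d * k⁻¹) * ((k * m * k⁻¹) * c⁻¹ * (k * m * k⁻¹)⁻¹) *
              (⁅k, m⁆ * d⁻¹ * ⁅k, m⁆⁻¹) * ⁅k, m⁆ := by
          simp only [commutatorElement_def]; group
        rw [e]
        refine mul_mem (Subgroup.mem_sup_left ?_) (Subgroup.mem_sup_right
          (Subgroup.commutator_mem_commutator hk hm))
        exact mul_mem (mul_mem (mul_mem hc (hconj k hk d hd))
          (hconj _ (mul_mem (mul_mem hk hm) (inv_mem hk)) _ (inv_mem hc)))
          (hconj _ (Subgroup.commutator_le_self B (Subgroup.commutator_mem_commutator hk hm)) _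
            (inv_mem hd))
      exact hle hz
    rw [← SetLike.mem_coe, Subgroup.coe_mul_of_right_le_normalizer_left C D hDn] at hzM
    obtain ⟨c, hc, d, hd, rfl⟩ := hzM
    change E.proj (c * d) = 1 at hz1
    rw [map_mul] at hz1
    have hcK : E.proj c ∈ K := by
      rw [eq_inv_of_mul_eq_one_left hz1]
      exact inv_mem (Subgroup.commutator_le_self B hd :)
    have hc1 := hdis c hc hcK
    rw [hc1, one_mul] at hz1
    show c * d = 1
    rw [eq_of_inverted E hl (hinv c hc) (y := 1) (by group) (by rw [hc1, map_one]),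
      hK d hd hz1, one_mul]
  · set A' := Subgroup.closure A
    have hn : K ≤ Subgroup.normalizer (A' : Set G) := by
      intro k hk
      obtain ⟨y, rfl⟩ := E.surj k
      rw [Subgroup.mem_normalizer_iff]
      intro a
      have key : ∀ y ∈ B, ∀ a ∈ A', E.proj y * a * (E.proj y)⁻¹ ∈ A' := by
        intro y hy a ha
        obtain ⟨c, hc, rfl⟩ : a ∈ C.map E.proj := hmapC.symm ▸ ha
        rw [← hmapC, ← map_inv, ← map_mul, ← map_mul]
        exact Subgroup.mem_map_of_mem _ (hconj y hy c hc)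
      refine ⟨key y hk a, fun ha => ?_⟩
      have h' := key y⁻¹ (inv_mem (show y ∈ B from hk)) _ ha
      rw [map_inv] at h'
      have e : (E.proj y)⁻¹ * (E.proj y * a * (E.proj y)⁻¹) * (E.proj y)⁻¹⁻¹ = a := by group
      rwa [e] at h'
    have hinf : ∀ a ∈ A', a ∈ K → a = 1 := by
      intro a ha haK
      obtain ⟨c, hc, rfl⟩ : a ∈ C.map E.proj := hmapC.symm ▸ ha
      exact hdis c hc haK
    have hbij : Function.Bijective (fun p : ↥A' × ↥K =>
        (⟨p.1.1 * p.2.1, Subgroup.mul_mem_sup p.1.2 p.2.2⟩ : ↥(A' ⊔ K))) := by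
      constructor
      · rintro ⟨a, k⟩ ⟨b, m⟩ h
        have h' : a.1 * k.1 = b.1 * m.1 := congrArg Subtype.val h
        have e : b.1⁻¹ * a.1 = m.1 * k.1⁻¹ := by
          calc b.1⁻¹ * a.1 = b.1⁻¹ * (a.1 * k.1) * k.1⁻¹ := by group
            _ = _ := by rw [h']; group
        have h1 := hinf _ (mul_mem (inv_mem b.2) a.2) (e ▸ mul_mem m.2 (inv_mem k.2))
        have hab : b.1 = a.1 := inv_mul_eq_one.1 h1
        rw [hab, mul_right_inj] at h'
        exact Prod.ext (Subtype.ext hab.symm) (Subtype.ext h')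
      · rintro ⟨g, hg⟩
        rw [← SetLike.mem_coe, Subgroup.coe_mul_of_right_le_normalizer_left A' K hn] at hg
        obtain ⟨a, ha, k, hk, e⟩ := hg
        exact ⟨(⟨a, ha⟩, ⟨k, hk⟩), Subtype.ext e⟩
    rw [← Nat.card_eq_of_bijective _ hbij, Nat.card_prod]

/-- A chain of elementary generators: each moves a set fixed by its predecessors. -/
theorem pow_le_card_closure [Finite G] (p : ℕ) (hp : p.Prime) (g : ℕ → G) :
    ∀ n, (∀ i < n, ∀ j < n, Commute (g i) (g j)) → (∀ i < n, g i ^ p = 1) →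
      (∀ i < n, g i ∉ Subgroup.closure (g '' {j | j < i})) →
      p ^ n ∣ Nat.card ↥(Subgroup.closure (g '' {j | j < n}))
  | 0, _, _, _ => by simp
  | n + 1, hc, hp', hne => by
    have ih := pow_le_card_closure p hp g n (fun i hi j hj => hc i (by omega) j (by omega))
      (fun i hi => hp' i (by omega)) (fun i hi => hne i (by omega))
    haveI := Fact.mk hp
    set B := Subgroup.closure (g '' {j | j < n}) with hB
    set H := Subgroup.closure (g '' {j | j < n + 1}) with hH
    have hlt : B < H := lt_of_le_of_ne (Subgroup.closure_mono (Set.image_mono fun j (hj : j < n) =>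
      (Nat.lt_succ_of_lt hj : j < n + 1))) fun e => hne n (Nat.lt_succ_self n)
        (hB ▸ e.symm ▸ Subgroup.subset_closure ⟨n, Nat.lt_succ_self n, rfl⟩)
    have hab : ∀ x ∈ H, ∀ y ∈ H, Commute x y := by
      have h1 : H ≤ Subgroup.centralizer (g '' {j | j < n + 1}) := (Subgroup.closure_le _).2 <| by
        rintro _ ⟨i, hi, rfl⟩
        refine Subgroup.mem_centralizer_iff.2 ?_
        rintro _ ⟨j, hj, rfl⟩
        exact (hc j hj i hi).eq
      have h2 : H ≤ Subgroup.centralizer (H : Set G) := by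
        rw [hH, Subgroup.centralizer_closure]; exact h1
      exact fun x hx y hy => (Subgroup.mem_centralizer_iff.1 (h2 hy) x hx)
    have hexp : ∀ x ∈ H, x ^ p = 1 := by
      intro x hx
      induction hx using Subgroup.closure_induction with
      | mem x hx => obtain ⟨i, hi, rfl⟩ := hx; exact hp' i hi
      | one => rw [one_pow]
      | mul x y hx hy ihx ihy => rw [(hab x hx y hy).mul_pow, ihx, ihy, one_mul]
      | inv x _ ihx => rw [inv_pow, ihx, inv_one]
    have hpg : IsPGroup p ↥H := fun x => ⟨1, by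
      rw [pow_one]; exact Subtype.ext (by simpa using hexp x.1 x.2)⟩
    obtain ⟨m, hm⟩ := IsPGroup.iff_card.1 hpg
    obtain ⟨k, hk⟩ := IsPGroup.iff_card.1 (hpg.to_le hlt.le)
    rw [hk] at ih
    have hkn : n ≤ k := (Nat.pow_dvd_pow_iff_le_right hp.one_lt).1 ih
    have hkm : k < m := by
      rw [← Nat.pow_lt_pow_iff_right hp.one_lt, ← hk, ← hm]
      exact lt_of_le_of_ne (Subgroup.card_le_of_le hlt.le) fun e =>
        hlt.ne (Subgroup.eq_of_le_of_card_ge hlt.le e.ge)
    rw [hm]
    exact pow_dvd_pow p (by omega)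

/-- A killed subgroup has killed conjugates. -/
theorem killed_conj {H : Subgroup G} (hH : E.Killed H) (g : G) :
    E.Killed (H.map (MulAut.conj g).toMonoidHom) := by
  obtain ⟨y, rfl⟩ := E.surj g
  intro z hz hz1
  have hle : E.pre (H.map (MulAut.conj (E.proj y)).toMonoidHom) ≤
      (E.pre H).map (MulAut.conj y).toMonoidHom := by
    rintro x ⟨a, ha, he⟩
    refine ⟨y⁻¹ * x * y, ?_, by show y * (y⁻¹ * x * y) * y⁻¹ = x; group⟩
    show E.proj (y⁻¹ * x * y) ∈ H
    rw [map_mul, map_mul, map_inv, ← he]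
    show (E.proj y)⁻¹ * (E.proj y * a * (E.proj y)⁻¹) * E.proj y ∈ H
    simpa [mul_assoc] using ha
  have := Subgroup.commutator_mono hle hle hz
  rw [← Subgroup.map_commutator] at this
  obtain ⟨w, hw, rfl⟩ := this
  have hw1 : E.proj w = 1 := by
    have : E.proj y * E.proj w * (E.proj y)⁻¹ = 1 := by
      rw [← map_inv, ← map_mul, ← map_mul]; exact hz1
    exact conj_eq_one_iff.1 this
  rw [hH w hw hw1, map_one]

end Cfsg.Agent.H40.Co
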