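import Cfsg.Agent.H40.Co.Words
import Cfsg.Agent.H40.Co.KillInv

/-!
Checks on lists of words generating elementary abelian subgroups of Co0, and what they give.
-/

set_option autoImplicit false

namespace Cfsg.Agent.H40.Co

open Cfsg Cfsg.Agent.Golay Cfsg.Agent.H92.LeechOrbit

/-- The `i`th word. -/
def nth (gens : List (List Atom)) (i : ℕ) : List Atom := gens.getD i []

/-- The element of the `i`th word. -/
noncomputable def gen (gens : List (List Atom)) (i : ℕ) : Co0 := wordEl (nth gens i)

/-- All atoms are valid. -/
def okAll (gens : List (List Atom)) : Bool := gens.all fun w => w.all atomOK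

/-- The words of some indices. -/
def pick (gens : List (List Atom)) (X : List ℕ) : List (List Atom) := X.map (nth gens)

/-- The generators have order dividing `l`. -/
noncomputable def powOK (l : ℕ) (gens : List (List Atom)) : Bool :=
  gens.all fun w => eqP (List.replicate l w) []

/-- The generators commute. -/
noncomputable def commOK (gens : List (List Atom)) : Bool :=
  (List.range gens.length).all fun i => (List.range i).all fun j =>
    eqP [nth gens i, nth gens j] [nth gens j, nth gens i]

/-- Conjugation by `g` sends `a` to the product of some generators. -/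
noncomputable def conjOK (gens : List (List Atom)) (g a : List Atom) (X : List ℕ) : Bool :=
  eqP [g, a] (pick gens X ++ [g])

/-- Each generator moves out a set kept by its predecessors. -/
noncomputable def chainOK (gens : List (List Atom)) (C : List (List ℕ)) : Bool :=
  (List.range gens.length).all fun i =>
    (List.range i).all (fun j => keepS (nth gens j) (C.getD i [])) && moveS (nth gens i) (C.getD i [])

theorem ok_nth {gens : List (List Atom)} (h : okAll gens = true) (i : ℕ) :
    (nth gens i).all atomOK = true := by
  unfold nth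
  by_cases hi : i < gens.length
  · rw [List.getD_eq_getElem _ _ hi]
    exact List.all_eq_true.1 h _ (List.getElem_mem _)
  · rw [List.getD_eq_default _ _ (by omega)]; rfl

theorem ok_pick {gens : List (List Atom)} (h : okAll gens = true) (X : List ℕ) :
    ∀ w ∈ pick gens X, w.all atomOK = true := by
  intro w hw
  obtain ⟨i, -, rfl⟩ := List.mem_map.1 hw
  exact ok_nth h i

theorem gen_mem {gens : List (List Atom)} {n i : ℕ} (hi : i < n) :
    gen gens i ∈ Subgroup.closure (gen gens '' {j | j < n}) :=
  Subgroup.subset_closure ⟨i, hi, rfl⟩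

theorem gen_pow {l : ℕ} {gens : List (List Atom)} (h : okAll gens = true)
    (hp : powOK l gens = true) {i : ℕ} (hi : i < gens.length) : gen gens i ^ l = 1 := by
  have h' := List.all_eq_true.1 hp (nth gens i) (by
    rw [nth, List.getD_eq_getElem _ _ hi]; exact List.getElem_mem _)
  have e := eq_of_eqP (fun w hw => by rw [List.eq_of_mem_replicate hw]; exact ok_nth h i)
    (by simp) h'
  simpa [gen] using e

theorem gen_comm {gens : List (List Atom)} (h : okAll gens = true) (hc : commOK gens = true)
    {i j : ℕ} (hi : i < gens.length) (hj : j < gens.length) :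
    Commute (gen gens i) (gen gens j) := by
  have key : ∀ i j, i < gens.length → j < i → Commute (gen gens i) (gen gens j) := by
    intro i j hi hj
    simp only [commOK, List.all_eq_true, List.mem_range] at hc
    have e := eq_of_eqP (fun w hw => by
      simp only [List.mem_cons, List.not_mem_nil, or_false] at hw
      rcases hw with rfl | rfl <;> exact ok_nth h _) (fun w hw => by
      simp only [List.mem_cons, List.not_mem_nil, or_false] at hw
      rcases hw with rfl | rfl <;> exact ok_nth h _) (hc i hi j hj)
    simpa [gen, Commute, SemiconjBy] using e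
  rcases lt_trichotomy j i with hlt | rfl | hlt
  · exact key i j hi hlt
  · exact Commute.refl _
  · exact (key j i hj hlt).symm

theorem conj_of_conjOK {gens : List (List Atom)} (h : okAll gens = true) {g a : List Atom}
    (hg : g.all atomOK = true) (ha : a.all atomOK = true) {X : List ℕ}
    (hX : conjOK gens g a X = true) :
    wordEl g * wordEl a * (wordEl g)⁻¹ = (X.map (gen gens)).prod := by
  have e := eq_of_eqP (fun w hw => by
    simp only [List.mem_cons, List.not_mem_nil, or_false] at hw
    rcases hw with rfl | rfl <;> assumption) (fun w hw => by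
    rcases List.mem_append.1 hw with hw | hw
    · exact ok_pick h X w hw
    · rw [List.mem_singleton.1 hw]; exact hg) hX
  simp only [List.map_cons, List.map_nil, List.prod_cons, List.prod_nil, mul_one, List.map_append,
    List.prod_append, pick, List.map_map] at e
  rw [e, mul_inv_cancel_right]
  rfl

theorem prod_gen_mem {gens : List (List Atom)} {n : ℕ} {X : List ℕ} (hX : ∀ x ∈ X, x < n) :
    (X.map (gen gens)).prod ∈ Subgroup.closure (gen gens '' {j | j < n}) :=
  Subgroup.list_prod_mem _ fun _ hw => by
    obtain ⟨x, hx, rfl⟩ := List.mem_map.1 hw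
    exact gen_mem (hX x hx)

theorem pow_dvd_card_gens {l : ℕ} (hl : l.Prime) {gens : List (List Atom)}
    {C : List (List ℕ)} (h : okAll gens = true) (hp : powOK l gens = true)
    (hc : commOK gens = true) (hC : chainOK gens C = true) :
    l ^ gens.length ∣ Nat.card ↥(Subgroup.closure (gen gens '' {j | j < gens.length})) := by
  refine pow_le_card_closure l hl (gen gens) gens.length (fun i hi j hj => gen_comm h hc hi hj)
    (fun i hi => gen_pow h hp hi) fun i hi hmem => ?_
  simp only [chainOK, List.all_eq_true, List.mem_range, Bool.and_eq_true] at hC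
  obtain ⟨hk, hm⟩ := hC i hi
  refine notMem_setFixes (ok_nth h i) hm ((Subgroup.closure_le _).2 ?_ hmem)
  rintro _ ⟨j, hj, rfl⟩
  exact mem_setFixes (ok_nth h j) (hk j hj)

/-- A subgroup normalised by another which meets it trivially. -/
theorem card_sup_of_normalizes {G : Type*} [Group G] {A K : Subgroup G}
    (hn : K ≤ Subgroup.normalizer (A : Set G)) (hi : ∀ a ∈ A, a ∈ K → a = 1) :
    Nat.card ↥(A ⊔ K) = Nat.card ↥A * Nat.card ↥K := by
  have hbij : Function.Bijective (fun p : ↥A × ↥K =>
      (⟨p.1.1 * p.2.1, Subgroup.mul_mem_sup p.1.2 p.2.2⟩ : ↥(A ⊔ K))) := by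
    constructor
    · rintro ⟨a, k⟩ ⟨b, m⟩ h
      have h' : a.1 * k.1 = b.1 * m.1 := congrArg Subtype.val h
      have e : b.1⁻¹ * a.1 = m.1 * k.1⁻¹ := by
        calc b.1⁻¹ * a.1 = b.1⁻¹ * (a.1 * k.1) * k.1⁻¹ := by group
          _ = _ := by rw [h']; group
      have h1 := hi _ (mul_mem (inv_mem b.2) a.2) (e ▸ mul_mem m.2 (inv_mem k.2))
      have hab : b.1 = a.1 := inv_mul_eq_one.1 h1
      rw [hab, mul_right_inj] at h'
      exact Prod.ext (Subtype.ext hab.symm) (Subtype.ext h')
    · rintro ⟨g, hg⟩
      rw [← SetLike.mem_coe, Subgroup.coe_mul_of_right_le_normalizer_left A K hn] at hg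
      obtain ⟨a, ha, k, hk, e⟩ := hg
      exact ⟨(⟨a, ha⟩, ⟨k, hk⟩), Subtype.ext e⟩
  rw [← Nat.card_eq_of_bijective _ hbij, Nat.card_prod]

/-- A cyclic subgroup of prime order meets a subgroup not containing it trivially. -/
theorem zpowers_inf_eq_one {G : Type*} [Group G] {B : Subgroup G} {y : G} {p : ℕ} (hp : p.Prime)
    (hy : y ^ p = 1) (hn : y ∉ B) : ∀ a ∈ B, a ∈ Subgroup.zpowers y → a = 1 := by
  intro a ha hay
  by_contra hne
  haveI := Fact.mk hp
  have hy1 : y ≠ 1 := fun e => hn (e ▸ one_mem B)
  have hc : Nat.card ↥(Subgroup.zpowers y) = p := by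
    rw [Nat.card_zpowers, orderOf_eq_prime hy hy1]
  haveI : Finite ↥(Subgroup.zpowers y) := Nat.finite_of_card_ne_zero (by rw [hc]; exact hp.ne_zero)
  have hle : Subgroup.zpowers a ≤ Subgroup.zpowers y := Subgroup.zpowers_le.2 hay
  have ho : orderOf a = p := orderOf_eq_prime (by
    obtain ⟨i, rfl⟩ := Subgroup.mem_zpowers_iff.1 hay
    rw [← zpow_natCast, ← zpow_mul, mul_comm, zpow_mul, zpow_natCast, hy, one_zpow]) hne
  have heq := Subgroup.eq_of_le_of_card_ge hle (by rw [hc, Nat.card_zpowers, ho])
  exact hn (Subgroup.zpowers_le.2 ha (heq ▸ Subgroup.mem_zpowers y))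

end Cfsg.Agent.H40.Co
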