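import Cfsg.Agent.H40.Co.FiveData
import Cfsg.Agent.H40.Co.Gens

/-!
Kernel checks of the words for the prime 5.
-/

set_option autoImplicit false
set_option maxRecDepth 100000

namespace Cfsg.Agent.H40.Co

open Cfsg Cfsg.Agent.Golay Cfsg.Agent.H92.LeechOrbit

theorem five_ok : (okAll fiveGens && fiveInv.all atomOK && fiveWit.all atomOK &&
    fiveTop.all atomOK && Nat.beq fiveGens.length 3) = true := by
  decide +kernel

theorem five_comm : commOK fiveGens = true := by decide +kernel

theorem five_pow : powOK 5 fiveGens = true := by decide +kernel

theorem five_chain : chainOK fiveGens fiveChain = true := by decide +kernel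

theorem five_inv : (eqP [fiveInv, fiveInv] [] && fiveGens.all fun a =>
    eqP [fiveInv, a, fiveInv] (List.replicate 4 a)) = true := by decide +kernel

theorem five_wit : ((List.range 3).all fun i =>
    conjOK fiveGens fiveWit (nth fiveGens i) [i, i]) = true := by decide +kernel

theorem five_conj : ((List.range 3).all fun i => ((fiveConj.getD i []).all fun x => decide (x < 3)) &&
    conjOK fiveGens fiveTop (nth fiveGens i) (fiveConj.getD i [])) = true := by decide +kernel

theorem five_top : (eqP (List.replicate 5 fiveTop) [] &&
    eqP [fiveInv, fiveTop] [fiveTop, fiveInv]) = true := by decide +kernel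

/-- A vector moved by the further generator. -/
theorem five_top_moves : ((List.range 37).any fun k =>
    moveS fiveTop [CoTwo.genCodes.getD k 0]) = true := by decide +kernel

end Cfsg.Agent.H40.Co
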