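import Cfsg.Agent.H92.LeechOrbit

/-! Generated data: a Sylow 5-subgroup of Co0 and witnesses. -/

set_option autoImplicit false

namespace Cfsg.Agent.H40.Co

open Cfsg.Agent.H92.LeechOrbit

/-- Generators of the abelian subgroup. -/
def fiveGens : List (List Atom) := [
  [.mono 0 0 390989536752934363220371596223558346],
  [.mono 15531489 5280668261536691888612966401 96731182615213679181686323352788079,
    .zeta,
    .mono 16272351 5281872463832116038138401041 178347685663383338804646979657452237,
    .zeta,
    .mono 2073809 1289520801898870236839937 778163233843726882996469154533974539,
    .zeta,
    .zeta,
    .mono 0 0 974380510768821363662145534143076928],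
  [.mono 3117484 19423408091895087974322432 525196930998471142692280513022052834,
    .zeta,
    .mono 16272351 5281872463832116038138401041 178347685663383338804646979657452237,
    .zeta,
    .mono 0 0 1795248432537898728475572672376535,
    .mono 10864326 4971107712293562376907653392 99960815024906451324498813702882985,
    .zeta,
    .zeta]]

/-- The inverting involution. -/
def fiveInv : List Atom :=
  [.mono 11556565 4972311896147310033097523457 85252655334792702782962943855288004]

/-- An element squaring the abelian subgroup. -/
def fiveWit : List Atom :=
  [.mono 1608104 1284484836279644855472128 607077916100817338339758569257775590]

/-- The further generator. -/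
def fiveTop : List Atom :=
  [.mono 5610076 310698677607407281760178432 501673500194288624250330281465556201,
    .zeta,
    .mono 11644738 4972311915679157738239164432 251409438517723588181366450974537324,
    .zeta,
    .mono 10694537 4971103283854526784062099457 666469055422631501217807942461018691,
    .zeta,
    .mono 9718991 4952973805399694884437233937 94217280519548337820318652215837417,
    .zeta,
    .mono 0 0 974380510768821363662145534143076928]

/-- Conjugates of the generators by the further one, as products of generators. -/
def fiveConj : List (List ℕ) := [[0, 0, 0, 0, 1, 1, 1, 1, 2], [0, 0, 0, 0, 1, 1, 1, 2], [2]]

/-- Sets of vectors kept by the earlier generators and moved by the next. -/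
def fiveChain : List (List ℕ) := [[42255020007607646716556773580],
  [42255020007607646734810384520],
  [42255020007607646734810384520, 37628389782523283183289071513, 37592273716263982472751454103, 46879081263019450960113531255, 46920335268623870231819426169]]

end Cfsg.Agent.H40.Co
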