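import Cfsg.Agent.H40.Co.SevenCheck

/-!
Co0 has no stem extension with kernel of order seven: a subgroup of order 49 has commuting lifts
as an element centralises one generator and squares the other.
-/

set_option autoImplicit false

namespace Cfsg.Agent.H40.Co

open Cfsg Cfsg.Agent.Golay Cfsg.Agent.H92.LeechOrbit Cfsg.Agent.Linear.Mult

theorem noStem_seven : NoStem 7 Co0 := by
  have hp : Nat.Prime 7 := by norm_num
  have h := seven_ok
  simp only [Bool.and_eq_true] at h
  obtain ⟨⟨hok, hw⟩, hlen⟩ := h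
  have hlen : sevenGens.length = 2 := Nat.eq_of_beq_eq_true hlen
  have hwit := seven_wit
  simp only [Bool.and_eq_true] at hwit
  have e0 := conj_of_conjOK hok hw (ok_nth hok 0) hwit.1
  have e1 := conj_of_conjOK hok hw (ok_nth hok 1) hwit.2
  simp only [List.map_cons, List.map_nil, List.prod_cons, List.prod_nil, mul_one] at e0 e1
  set a := gen sevenGens 0 with ha
  set b := gen sevenGens 1 with hb
  have hab : Commute a b := gen_comm hok seven_comm (by omega) (by omega)
  have hout : b ∉ Subgroup.zpowers a := by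
    have hc := seven_chain
    simp only [chainOK, List.all_eq_true, List.mem_range, Bool.and_eq_true] at hc
    obtain ⟨hk, hm⟩ := hc 1 (by omega)
    exact fun hmem => notMem_setFixes (ok_nth hok 1) hm
      (Subgroup.zpowers_le.2 (mem_setFixes (ok_nth hok 0) (hk 0 (by omega))) hmem)
  have hb7 : b ^ 7 = 1 := gen_pow hok seven_pow (by omega)
  have ha7 : a ^ 7 = 1 := gen_pow hok seven_pow (by omega)
  have ha1 : a ≠ 1 := by
    intro e
    have hc := seven_chain
    simp only [chainOK, List.all_eq_true, List.mem_range, Bool.and_eq_true] at hc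
    obtain ⟨-, hm⟩ := hc 0 (by omega)
    exact notMem_setFixes (ok_nth hok 0) hm (show a ∈ setFixes _ from e ▸ one_mem _)
  have hdis := zpowers_inf_eq_one hp hb7 hout
  refine noStem_of_killed hp fun Γ _ _ E => ?_
  have hcm : E.cm a b = 1 :=
    cm_eq_one_of_power E hab (g := wordEl sevenWit) (i := 1) (j := 2)
      (e0.trans (pow_one a).symm) (e1.trans (pow_two b).symm) (by decide)
  have hcomm : ∀ x ∈ Subgroup.zpowers a, ∀ y ∈ Subgroup.zpowers b, Commute x y := by
    intro x hx y hy
    obtain ⟨i, rfl⟩ := Subgroup.mem_zpowers_iff.1 hx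
    obtain ⟨j, rfl⟩ := Subgroup.mem_zpowers_iff.1 hy
    exact hab.zpow_zpow i j
  refine ⟨Subgroup.zpowers a ⊔ Subgroup.zpowers b, ?_, ?_⟩
  · intro z hz hz1
    obtain ⟨A, hA⟩ := E.surj a
    obtain ⟨B, hB⟩ := E.surj b
    have hc : Commute A B := E.commute_of_cm hcm hA hB
    have hkey : ∀ x ∈ E.pre (Subgroup.zpowers a ⊔ Subgroup.zpowers b),
        ∃ i j : ℤ, ∃ u, E.proj u = 1 ∧ x = A ^ i * B ^ j * u := by
      intro x hx
      have hn : Subgroup.zpowers b ≤ Subgroup.normalizer (Subgroup.zpowers a : Set Co0) := by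
        intro y hy
        rw [Subgroup.mem_normalizer_iff]
        intro n
        constructor
        · intro hn
          rw [← (hcomm n hn y hy).eq, mul_inv_cancel_right]; exact hn
        · intro hn
          have e := (hcomm _ hn y⁻¹ (inv_mem hy)).eq
          have e' : n = y⁻¹ * (y * n * y⁻¹) * y⁻¹⁻¹ := by group
          rw [e', ← e, mul_inv_cancel_right]; exact hn
      have hx' : E.proj x ∈ ((Subgroup.zpowers a ⊔ Subgroup.zpowers b : Subgroup Co0) : Set Co0) := hx
      rw [Subgroup.coe_mul_of_right_le_normalizer_left _ _ hn] at hx'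
      obtain ⟨p, hp', q, hq, e⟩ := hx'
      obtain ⟨i, rfl⟩ := Subgroup.mem_zpowers_iff.1 hp'
      obtain ⟨j, rfl⟩ := Subgroup.mem_zpowers_iff.1 hq
      refine ⟨i, j, (A ^ i * B ^ j)⁻¹ * x, ?_, (mul_inv_cancel_left _ _).symm⟩
      rw [map_mul, map_inv, map_mul, map_zpow, map_zpow, hA, hB, ← e, inv_mul_cancel]
    have hbot : ⁅E.pre (Subgroup.zpowers a ⊔ Subgroup.zpowers b),
        E.pre (Subgroup.zpowers a ⊔ Subgroup.zpowers b)⁆ ≤ ⊥ := by
      rw [Subgroup.commutator_le]
      intro x hx y hy
      obtain ⟨i, j, u, hu, rfl⟩ := hkey x hx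
      obtain ⟨m, n, v, hv, rfl⟩ := hkey y hy
      rw [commutatorElement_def, H34.SylCert.comm_mul_central (E.ker_central hu) (E.ker_central hv),
        Subgroup.mem_bot, ← commutatorElement_def, commutatorElement_eq_one_iff_commute]
      exact (((Commute.refl A).zpow_zpow i m).mul_left (hc.symm.zpow_zpow j m)).mul_right
        ((hc.zpow_zpow i n).mul_left ((Commute.refl B).zpow_zpow j n))
    exact Subgroup.mem_bot.1 (hbot hz)
  · intro hd
    have hn : Subgroup.zpowers b ≤ Subgroup.normalizer (Subgroup.zpowers a : Set Co0) := by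
      rw [Subgroup.zpowers_le, Subgroup.mem_normalizer_iff]
      intro n
      constructor
      · intro hn
        rw [← (hcomm n hn b (Subgroup.mem_zpowers b)).eq, mul_inv_cancel_right]; exact hn
      · intro hn
        have e := (hcomm _ hn b⁻¹ (inv_mem (Subgroup.mem_zpowers b))).eq
        have e' : n = b⁻¹ * (b * n * b⁻¹) * b⁻¹⁻¹ := by group
        rw [e', ← e, mul_inv_cancel_right]; exact hn
    haveI := Fact.mk hp
    have hcard : Nat.card ↥(Subgroup.zpowers a ⊔ Subgroup.zpowers b : Subgroup Co0) = 7 * 7 := by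
      rw [card_sup_of_normalizes hn (fun x hx hx' => hdis x hx hx'), Nat.card_zpowers,
        Nat.card_zpowers, orderOf_eq_prime ha7 ha1,
        orderOf_eq_prime hb7 (fun e => hout (e ▸ one_mem _))]
    have hco := Subgroup.card_mul_index (Subgroup.zpowers a ⊔ Subgroup.zpowers b : Subgroup Co0)
    rw [hcard, card_co0] at hco
    omega

end Cfsg.Agent.H40.Co
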