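import Cfsg.Agent.H40.Co.SevenData
import Cfsg.Agent.H40.Co.Gens

/-!
Kernel checks of the words for the prime 7.
-/

set_option autoImplicit false
set_option maxRecDepth 100000

namespace Cfsg.Agent.H40.Co

open Cfsg Cfsg.Agent.H92.LeechOrbit

theorem seven_ok : (okAll sevenGens && sevenWit.all atomOK && Nat.beq sevenGens.length 2) = true := by
  decide +kernel

theorem seven_comm : commOK sevenGens = true := by decide +kernel

theorem seven_pow : powOK 7 sevenGens = true := by decide +kernel

theorem seven_chain : chainOK sevenGens sevenChain = true := by decide +kernel

theorem seven_wit : (conjOK sevenGens sevenWit (nth sevenGens 0) [0] &&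
    conjOK sevenGens sevenWit (nth sevenGens 1) [1, 1]) = true := by decide +kernel

end Cfsg.Agent.H40.Co
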