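import Cfsg.Agent.H92.LeechOrbit

/-! Generated data: a Sylow 7-subgroup of Co0 and a witness. -/

set_option autoImplicit false

namespace Cfsg.Agent.H40.Co

open Cfsg.Agent.H92.LeechOrbit

/-- The generators. -/
def sevenGens : List (List Atom) := [
  [.mono 0 0 984332414882583705717201952269600882],
  [.mono 9085422 4951836011310577302088192272 611763633348953989343973067172433297,
    .zeta,
    .mono 1811772 1284798435416004602433792 752042918393797330298301782954281573,
    .zeta,
    .mono 14245691 5262529669165308619256827921 520709925548117670509012479618009335,
    .zeta,
    .mono 138790 295148205414747734288 138215970185341892734324509961757216,
    .zeta,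
    .mono 11480510 4971183564084735499312369936 442969892216931790630281380270643310,
    .zeta]]

/-- An element centralising the first and squaring the second. -/
def sevenWit : List Atom :=
  [.mono 5225909 309565604803928381228908801 113403036220220250403234047418718593]

/-- Sets of vectors kept by the earlier generators and moved by the next. -/
def sevenChain : List (List ℕ) := [[42255020007607646716556773580],
  [43492960046893026991455898760]]

end Cfsg.Agent.H40.Co
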