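import Cfsg.Agent.H40.Co.SignsCheck
import Cfsg.Agent.H92.CrossGroup
import Cfsg.Agent.Linear.Mult.Killed
import Cfsg.Agent.Golay.OctadAlt
import Cfsg.Agent.Golay.OctPair
import Cfsg.Agent.Golay.SmallSets

/-!
In a central extension of Co0 by a group of order two the sign changes lift to an invariant
complement of the kernel.
-/

set_option autoImplicit false

namespace Cfsg.Agent.H40.Co

open Cfsg Cfsg.Agent.Golay Cfsg.Agent.Linear.Mult
open Cfsg.Agent.H92.LeechTwo (SignSet signs signAut_mul mem_signs signs_comm signs_sq permHom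
  conj_signAut signAut_mem_of_octads)
open scoped Pointwise commutatorElement symmDiff

/-! ### Octads -/

/-- An octad. -/
abbrev Oct : Type := {o : Finset GolayPt // o ∈ octads}

/-- Its sign change. -/
noncomputable def sgO (o : Oct) : Co0 := signAut ⟨o.1, o.2.1⟩

/-- The action on octads. -/
def mv (τ : M24) (o : Oct) : Oct := ⟨(τ : Equiv.Perm GolayPt) • o.1, smul_mem_octads τ.2 o.2⟩

theorem mv_one (o : Oct) : mv 1 o = o := Subtype.ext (one_smul _ o.1)

theorem mv_mul (σ τ : M24) (o : Oct) : mv (σ * τ) o = mv σ (mv τ o) :=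
  Subtype.ext (mul_smul _ _ o.1)

theorem conj_sgn (τ : M24) {o o' : SignSet} (h : o'.1 = τ • o.1) :
    permHom τ * signAut o * (permHom τ)⁻¹ = signAut o' := by
  obtain ⟨d, hd, he⟩ := conj_signAut τ o
  rw [show o' = d from Subtype.ext (h.trans hd.symm)]
  exact he

theorem conj_sgO (τ : M24) (o : Oct) : permHom τ * sgO o * (permHom τ)⁻¹ = sgO (mv τ o) :=
  conj_sgn τ rfl

theorem sgO_mem (o : Oct) : sgO o ∈ signs := mem_signs.2 ⟨_, rfl⟩

theorem smul_symmDiff_pts (g : Equiv.Perm GolayPt) (a b : Finset GolayPt) :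
    g • (a ∆ b) = (g • a) ∆ (g • b) := by
  ext p
  simp only [mem_smul_finset_iff, Finset.mem_symmDiff]

/-- The octad of a mask. -/
def octOf (m : ℕ) (h : m ∈ octadList) : Oct := ⟨ptSet m, ptSet_mem_octads h⟩

/-- The reference octad. -/
def oct0 : Oct := octOf refOct (List.contains_iff_mem.1 (by decide +kernel))

/-- Two octads meeting in four points with octad sum, and another such pair: some permutation
carries one to the other. -/
theorem exists_map_four {a b c d : Oct} (hab : (a.1 ∩ b.1).card = 4) (hcd : (c.1 ∩ d.1).card = 4) :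
    ∃ g : M24, mv g a = c ∧ mv g b = d := by
  classical
  have key : ∀ {a b : Oct}, (a.1 ∩ b.1).card = 4 →
      ∃ f : Fin 4 ⊕ Bool → GolayPt, Function.Injective f ∧
        (¬ ∃ o ∈ octads, ∀ i, f i ∈ o) ∧
        (∀ x, f x ∈ a.1 ↔ x ≠ Sum.inr true) ∧ (∀ x, f x ∈ b.1 ↔ x ≠ Sum.inr false) := by
    intro a b hab
    obtain ⟨x, hxa, hxb⟩ : ∃ x ∈ a.1, x ∉ b.1 := by
      by_contra h
      push Not at h
      rw [Finset.inter_eq_left.2 h, a.2.2] at hab
      omega
    obtain ⟨y, hyb, hya⟩ : ∃ y ∈ b.1, y ∉ a.1 := by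
      by_contra h
      push Not at h
      rw [Finset.inter_eq_right.2 h, b.2.2] at hab
      omega
    let e := (a.1 ∩ b.1).equivFinOfCardEq hab
    have he : ∀ i, (e.symm i : GolayPt) ∈ a.1 ∧ (e.symm i : GolayPt) ∈ b.1 := fun i =>
      Finset.mem_inter.1 (e.symm i).2
    refine ⟨Sum.elim (fun i => (e.symm i : GolayPt)) (fun t => bif t then y else x), ?_, ?_, ?_, ?_⟩
    · rintro (i | i) (j | j) h <;> simp only [Sum.elim_inl, Sum.elim_inr] at h
      · exact congrArg Sum.inl (e.symm.injective (Subtype.ext h))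
      · cases j <;> simp only [cond_true, cond_false] at h
        · exact absurd ((he i).2) (h ▸ hxb)
        · exact absurd ((he i).1) (h ▸ hya)
      · cases i <;> simp only [cond_true, cond_false] at h
        · exact absurd ((he j).2) (h.symm ▸ hxb)
        · exact absurd ((he j).1) (h.symm ▸ hya)
      · cases i <;> cases j <;> simp only [cond_true, cond_false] at h <;> first | rfl | skip
        · exact absurd (h ▸ hxa) hya
        · exact absurd (h.symm ▸ hxa) hya
    · rintro ⟨o, ho, hf⟩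
      have h5 : 5 ≤ (o ∩ a.1).card := by
        calc 5 = (insert x (a.1 ∩ b.1)).card := by
              rw [Finset.card_insert_of_notMem (fun h => hxb (Finset.mem_inter.1 h).2), hab]
          _ ≤ _ := Finset.card_le_card fun p hp => by
            rcases Finset.mem_insert.1 hp with rfl | hp
            · exact Finset.mem_inter.2 ⟨by simpa using hf (Sum.inr false), hxa⟩
            · refine Finset.mem_inter.2 ⟨?_, (Finset.mem_inter.1 hp).1⟩
              simpa using hf (Sum.inl (e ⟨p, hp⟩))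
      have hoa : o = a.1 := octad_eq_of_five ho a.2 h5
      exact hya (hoa ▸ (by simpa using hf (Sum.inr true)))
    · rintro (i | (_ | _)) <;> simp [he, hxa, hya]
    · rintro (i | (_ | _)) <;> simp [he, hxb, hyb]
  obtain ⟨f, hf, hfn, hfa, hfb⟩ := key hab
  obtain ⟨k, hk, hkn, hkc, hkd⟩ := key hcd
  obtain ⟨g, hg⟩ := exists_map_upto_six (ι := Fin 4 ⊕ Bool) (by simp) hf hk
    (fun _ => iff_of_false hfn hkn)
  have five : ∀ (a c : Oct) (u : Fin 4 ⊕ Bool), (∀ x, f x ∈ a.1 ↔ x ≠ u) →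
      (∀ x, k x ∈ c.1 ↔ x ≠ u) → mv g a = c := by
    intro a c u h1 h2
    refine Subtype.ext (octad_eq_of_five (mv g a).2 c.2 ?_)
    calc 5 = ((Finset.univ.erase u).image k).card := by
          rw [Finset.card_image_of_injective _ hk, Finset.card_erase_of_mem (Finset.mem_univ u)]
          simp
      _ ≤ _ := Finset.card_le_card fun p hp => by
        obtain ⟨x, hx, rfl⟩ := Finset.mem_image.1 hp
        have hx' : x ≠ u := Finset.ne_of_mem_erase hx
        refine Finset.mem_inter.2 ⟨?_, (h2 x).2 hx'⟩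
        rw [← hg x]
        exact Finset.smul_mem_smul_finset ((h1 x).2 hx')
  exact ⟨g, five a c _ hfa hkc, five b d _ hfb hkd⟩

/-! ### The commutator form -/

variable {X : Type} [Group X] (E : LExt 2 X Co0)

theorem sq_ker {z : X} (hz : E.proj z = 1) : z * z = 1 := by rw [← pow_two]; exact E.ker_pow hz

theorem cm_conj (τ : M24) {a b : SignSet} {a' b' : SignSet} (ha : a'.1 = τ • a.1)
    (hb : b'.1 = τ • b.1) : E.cm (signAut a') (signAut b') = E.cm (signAut a) (signAut b) := by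
  have hcom : Commute (signAut a) (signAut b) :=
    signs_comm (mem_signs.2 ⟨_, rfl⟩) (mem_signs.2 ⟨_, rfl⟩)
  have h := E.conj_cm (E.proj_lift (permHom τ)) (signAut a) (signAut b)
  rw [CExtData.conj_central (E.cm_mem_center hcom), conj_sgn τ ha, conj_sgn τ hb] at h
  exact h.symm

theorem cm_signs_ref : ∀ d : SignSet, E.cm (sgO oct0) (signAut d) = 1 := by
  have hmv := moves_ok
  simp only [movesOK, Bool.and_eq_true, List.all_eq_true, decide_eq_true_eq, beq_iff_eq,
    List.mem_range, List.contains_iff_mem] at hmv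
  obtain ⟨⟨⟨-, hm⟩, -⟩, hcomb⟩ := hmv
  let P : ℕ → Prop := fun m => ∃ hm : ptSet m ∈ supports (golayCode : Set (GolayPt → ZMod 2)),
    E.cm (sgO oct0) (signAut ⟨ptSet m, hm⟩) = 1
  have hxor : ∀ m n, P m → P n → P (m ^^^ n) := by
    rintro m n ⟨hm, em⟩ ⟨hn, en⟩
    refine ⟨ptSet_xor m n ▸ symmDiff_mem_supports hm hn, ?_⟩
    rw [show (⟨ptSet (m ^^^ n), ptSet_xor m n ▸ symmDiff_mem_supports hm hn⟩ : SignSet)
      = ⟨_, symmDiff_mem_supports hm hn⟩ from Subtype.ext (ptSet_xor m n),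
      ← signAut_mul ⟨_, hm⟩ ⟨_, hn⟩,
      E.cm_mul_right_of_commute (signs_comm (sgO_mem _) (mem_signs.2 ⟨_, rfl⟩)), em, en, one_mul]
  have hzero : P 0 := by
    refine ⟨(ptSet_mem_supports_iff (by norm_num)).2 (zero_mem_spanList _), ?_⟩
    have h1 : signAut ⟨ptSet 0, (ptSet_mem_supports_iff (by norm_num)).2 (zero_mem_spanList _)⟩
        = (1 : Co0) := by
      refine mul_left_cancel (a := signAut ⟨ptSet 0,
        (ptSet_mem_supports_iff (by norm_num)).2 (zero_mem_spanList _)⟩) ?_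
      rw [signAut_mul, mul_one]
      exact congrArg signAut (Subtype.ext (by simp [ptSet_zero]))
    rw [h1, E.cm_one_right]
  have hmove : ∀ p ∈ moves, P (p.2 ^^^ tblImg p.1 p.2) := by
    rintro ⟨T, d⟩ hp
    obtain ⟨⟨⟨hT, hfix⟩, hd⟩, h0⟩ := hm _ hp
    set τ : M24 := ⟨mkPerm T, mem_M24_of_inM24 hT⟩
    have hv := validT_of_inM24 hT
    have hdd : ptSet d ∈ octads := ptSet_mem_octads hd
    have he' : ptSet (tblImg T d) = τ • ptSet d := ptSet_tblImg hv d
    have hd' : ptSet (tblImg T d) ∈ octads := he' ▸ smul_mem_octads τ.2 hdd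
    refine ⟨ptSet_xor d (tblImg T d) ▸ symmDiff_mem_supports hdd.1 hd'.1, ?_⟩
    rw [show (⟨ptSet (d ^^^ tblImg T d), ptSet_xor d (tblImg T d) ▸
        symmDiff_mem_supports hdd.1 hd'.1⟩ : SignSet)
      = ⟨_, symmDiff_mem_supports hdd.1 hd'.1⟩ from Subtype.ext (ptSet_xor d _),
      ← signAut_mul ⟨_, hdd.1⟩ ⟨_, hd'.1⟩,
      E.cm_mul_right_of_commute (signs_comm (sgO_mem _) (mem_signs.2 ⟨_, rfl⟩))]
    have h0fix : oct0.1 = τ • oct0.1 := by
      show ptSet refOct = mkPerm T • ptSet refOct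
      rw [← ptSet_tblImg hv, hfix]
    unfold sgO
    rw [cm_conj E τ (a := ⟨oct0.1, oct0.2.1⟩) (b := ⟨ptSet d, hdd.1⟩) (a' := ⟨oct0.1, oct0.2.1⟩)
      (b' := ⟨ptSet (tblImg T d), hd'.1⟩) h0fix he']
    refine sq_ker E ?_
    rw [E.proj_cm, commutatorElement_eq_one_iff_commute.2 (signs_comm (mem_signs.2 ⟨_, rfl⟩) (mem_signs.2 ⟨_, rfl⟩))]
  have hfold : ∀ (l : List ℕ) (acc : ℕ), P acc → (∀ i ∈ l, i < moves.length) →
      P (l.foldl (fun a i => a ^^^ ((moves.getD i (0, 0)).2
        ^^^ tblImg (moves.getD i (0, 0)).1 (moves.getD i (0, 0)).2)) acc) := by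
    intro l
    induction l with
    | nil => intro acc h _; exact h
    | cons i t ih =>
      intro acc h hl
      rw [List.foldl_cons]
      refine ih _ (hxor _ _ h (hmove _ ?_)) fun j hj => hl j (List.mem_cons_of_mem _ hj)
      rw [List.getD_eq_getElem _ _ (hl i List.mem_cons_self)]
      exact List.getElem_mem _
  have hbasis : ∀ b ∈ basisList, P b := by
    intro b hb
    obtain ⟨k, hk, rfl⟩ := List.getElem_of_mem hb
    obtain ⟨h1, h2⟩ := hcomb k hk
    rw [← List.getD_eq_getElem _ 0 hk, ← h2]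
    exact hfold _ 0 hzero h1
  intro d
  have hm := mem_supports_iff.1 d.2
  obtain ⟨hs, he⟩ : P (maskOf d.1) :=
    spanList_induction (P := P) _ hzero (fun b hb => hbasis b (List.mem_reverse.1 hb)) hxor _ hm
  rwa [show (⟨ptSet (maskOf d.1), hs⟩ : SignSet) = d from Subtype.ext (ptSet_maskOf d.1)] at he

/-- Sign changes have commuting lifts. -/
theorem cm_signs {a b : Co0} (ha : a ∈ signs) (hb : b ∈ signs) : E.cm a b = 1 := by
  obtain ⟨d, rfl⟩ := mem_signs.1 hb
  let S : Subgroup Co0 :=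
    { carrier := {x | x ∈ signs ∧ E.cm x (signAut d) = 1}
      one_mem' := ⟨one_mem _, E.cm_one_left _⟩
      mul_mem' := fun {x y} hx hy => ⟨mul_mem hx.1 hy.1, by
        rw [E.cm_mul_left_of_commute (signs_comm hy.1 hb), hx.2, hy.2, one_mul]⟩
      inv_mem' := fun {x} hx => by
        refine ⟨inv_mem hx.1, ?_⟩
        rw [inv_eq_of_mul_eq_one_right (signs_sq hx.1)]
        exact hx.2 }
  obtain ⟨c, rfl⟩ := mem_signs.1 ha
  refine (signAut_mem_of_octads (E := S) (fun o ho => ⟨mem_signs.2 ⟨_, rfl⟩, ?_⟩) c).2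
  obtain ⟨g, hg⟩ := exists_M24_map_octad (o := o.1) (o' := oct0.1) ⟨o.2, ho⟩ oct0.2
  have hd : ptSet (maskOf d.1) = d.1 := ptSet_maskOf _
  obtain ⟨d', hd', -⟩ := conj_signAut g d
  rw [← cm_conj E g (a := o) (b := d) (a' := ⟨oct0.1, oct0.2.1⟩) (b' := d') hg.symm hd']
  exact cm_signs_ref E d'

/-! ### Lifts of octads -/

/-- A permutation stabilising an octad lifts to commute with a lift of its sign change. -/
theorem cm_stab (o : Oct) {τ : M24} (hτ : mv τ o = o) : E.cm (permHom τ) (sgO o) = 1 := by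
  classical
  obtain ⟨p, hp⟩ : ∃ p, p ∉ o.1 := by
    by_contra h
    push Not at h
    have := o.2.2
    rw [Finset.eq_univ_of_forall h] at this
    revert this
    decide
  let K : Subgroup (Equiv.Perm GolayPt) :=
    setStab o.1 ⊓ MulAction.stabilizer (Equiv.Perm GolayPt) p
  obtain ⟨-, hsup, ⟨eK⟩⟩ := octad_complement o.2 hp
  have hcomm : ∀ σ ∈ setStab o.1, ∀ h : σ ∈ M24, Commute (permHom ⟨σ, h⟩) (sgO o) := by
    intro σ hσ h
    have e := conj_sgO ⟨σ, h⟩ o
    rw [show mv ⟨σ, h⟩ o = o from Subtype.ext (MulAction.mem_stabilizer_iff.1 hσ.2)] at e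
    exact mul_inv_eq_iff_eq_mul.1 e
  let χ : ↥(setStab o.1) → X := fun σ => E.cm (permHom ⟨σ.1, σ.2.1⟩) (sgO o)
  have hχ : ∀ σ σ', χ (σ * σ') = χ σ' * χ σ := fun σ σ' => by
    show E.cm (permHom (⟨σ.1, σ.2.1⟩ * ⟨σ'.1, σ'.2.1⟩)) _ = _
    rw [map_mul, E.cm_mul_left_of_commute (hcomm _ σ'.2 _)]
  have hker : ∀ σ, E.proj (χ σ) = 1 := fun σ => by
    rw [E.proj_cm, commutatorElement_eq_one_iff_commute.2 (hcomm _ σ.2 _)]
  let χ' : ↥(setStab o.1) →* E.proj.ker :=
    MonoidHom.mk' (fun σ => ⟨χ σ, hker σ⟩) fun σ σ' => Subtype.ext (by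
      show χ (σ * σ') = χ σ * χ σ'
      rw [hχ]; exact E.ker_central (hker σ) (χ σ'))
  have hab : ∀ a b : E.proj.ker, a * b = b * a := fun a b =>
    Subtype.ext (E.ker_central b.2 a.1)
  have hK : ∀ σ (hσ : σ ∈ K), χ' ⟨σ, hσ.1⟩ = 1 := by
    intro σ hσ
    let f : ↥K →* E.proj.ker := χ'.comp (Subgroup.inclusion inf_le_left)
    have hsimple : IsSimpleGroup ↥K := by
      haveI : IsSimpleGroup (alternatingGroup (Fin 8)) :=
        alternatingGroup.isSimpleGroup (by simp)
      haveI : Nontrivial ↥K := eK.toEquiv.nontrivial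
      exact IsSimpleGroup.isSimpleGroup_of_surjective eK.symm.toMonoidHom eK.symm.surjective
    rcases (inferInstance : f.ker.Normal).eq_bot_or_eq_top with hb | ht
    · exfalso
      have hinj : Function.Injective f := (MonoidHom.ker_eq_bot_iff f).1 hb
      have hle : Nat.card ↥K ≤ Nat.card E.proj.ker := by
        haveI : Finite E.proj.ker := Nat.finite_of_card_ne_zero (by rw [E.card_ker]; norm_num)
        exact Nat.card_le_card_of_injective _ hinj
      rw [E.card_ker, Nat.card_congr eK.toEquiv, nat_card_alternatingGroup] at hle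
      simp [Nat.factorial] at hle
    · exact MonoidHom.mem_ker.1 (show (⟨σ, hσ⟩ : K) ∈ f.ker from ht ▸ Subgroup.mem_top _)
  obtain ⟨htrans, -⟩ := setFix_regular o.2 hp
  have hV : ∀ σ (hσ : σ ∈ setFix o.1), σ ≠ 1 → ∀ σ' (hσ' : σ' ∈ setFix o.1), σ' ≠ 1 →
      χ' ⟨σ, setFix_le _ hσ⟩ = χ' ⟨σ', setFix_le _ hσ'⟩ := by
    intro σ hσ hne σ' hσ' hne'
    have hfixp : ∀ ρ ∈ setFix o.1, ρ p = p → ρ = 1 := fun ρ hρ h => by
      have := (setFix_regular o.2 hp).2
      exact Subgroup.mem_bot.1 (this ▸ ⟨hρ, h⟩)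
    have hout : ∀ ρ ∈ setFix o.1, ρ p ∉ o.1 := fun ρ hρ h =>
      hp ((apply_mem_iff_of_mem_setStab o.1 (setFix_le _ hρ) p).1 h)
    obtain ⟨g, hgo, hgp, hgq⟩ := exists_map_octad_out_out o.2 o.2 hp (hout σ hσ)
      (fun h => hne (hfixp σ hσ h.symm)) hp (hout σ' hσ') (fun h => hne' (hfixp σ' hσ' h.symm))
    have hgS : (g : Equiv.Perm GolayPt) ∈ setStab o.1 :=
      ⟨g.2, MulAction.mem_stabilizer_iff.2 hgo⟩
    have hconj : g.1 * σ * g.1⁻¹ ∈ setFix o.1 := by
      refine ⟨M24.mul_mem (M24.mul_mem g.2 hσ.1) (M24.inv_mem g.2), (mem_fixingSubgroup_iff _).2 fun y hy => ?_⟩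
      have hy' : g.1⁻¹ y ∈ o.1 :=
        (apply_mem_iff_of_mem_setStab o.1 ((setStab o.1).inv_mem hgS) y).2 (Finset.mem_coe.1 hy)
      show g.1 (σ (g.1⁻¹ y)) = y
      rw [show σ (g.1⁻¹ y) = g.1⁻¹ y from (mem_fixingSubgroup_iff _).1 hσ.2 _ (Finset.mem_coe.2 hy')]
      exact Equiv.apply_symm_apply g.1 y
    have heq : g.1 * σ * g.1⁻¹ = σ' := by
      refine mul_inv_eq_one.1 (hfixp _ (mul_mem hconj (inv_mem hσ')) ?_)
      have hpp : g.1⁻¹ p = p := Equiv.Perm.inv_eq_iff_eq.2 hgp.symm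
      -- both send `p` to the same point
      have e1 : (g.1 * σ * g.1⁻¹) p = σ' p := by
        show g.1 (σ (g.1⁻¹ p)) = σ' p
        rw [hpp, hgq]
      have hcomm' : σ'⁻¹ = σ' := inv_eq_of_mul_eq_one_right ((octad_fixing o.2).2 _ hσ')
      rw [hcomm']
      have hc : g.1 * σ * g.1⁻¹ * σ' = σ' * (g.1 * σ * g.1⁻¹) := by
        have h1 := (octad_fixing o.2).2 _ (mul_mem hconj hσ')
        have h2 := (octad_fixing o.2).2 _ hconj
        have h3 := (octad_fixing o.2).2 _ hσ'
        rw [← inv_eq_of_mul_eq_one_right h1, mul_inv_rev, inv_eq_of_mul_eq_one_right h2,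
          inv_eq_of_mul_eq_one_right h3]
      rw [hc, Equiv.Perm.mul_apply, e1]
      exact congrFun (congrArg DFunLike.coe ((octad_fixing o.2).2 _ hσ')) p
    have hm := congrArg χ' (show (⟨g.1, hgS⟩ * ⟨σ, setFix_le _ hσ⟩ * ⟨g.1, hgS⟩⁻¹ : setStab o.1)
      = ⟨σ', setFix_le _ hσ'⟩ from Subtype.ext heq)
    rw [map_mul, map_mul, map_inv, hab (χ' _) (χ' _), mul_inv_cancel_right] at hm
    exact hm
  have hfix : ∀ σ (hσ : σ ∈ setFix o.1), χ' ⟨σ, setFix_le _ hσ⟩ = 1 := by
    intro σ hσ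
    by_cases h1 : σ = 1
    · subst h1; exact map_one χ'
    obtain ⟨v, hv, hv1, hvσ⟩ : ∃ v ∈ setFix o.1, v ≠ 1 ∧ v ≠ σ := by
      by_contra hcon
      push Not at hcon
      haveI : Finite ↥(setFix o.1) := inferInstance
      have hsub : (setFix o.1 : Set (Equiv.Perm GolayPt)) ⊆ {1, σ} := fun v hv => by
        by_cases hv1 : v = 1
        · exact Or.inl hv1
        · exact Or.inr (hcon v hv hv1)
      have h16 : Nat.card ↥(setFix o.1) = 16 := (octad_fixing o.2).1
      have hle : (setFix o.1 : Set (Equiv.Perm GolayPt)).ncard ≤ 2 :=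
        (Set.ncard_le_ncard hsub).trans ((Set.ncard_insert_le _ _).trans (by simp))
      rw [← Nat.card_coe_set_eq] at hle
      simp only [SetLike.coe_sort_coe] at hle
      omega
    have hne : σ * v ≠ 1 := fun h => hvσ (by
      rw [eq_inv_of_mul_eq_one_right h, inv_eq_of_mul_eq_one_right ((octad_fixing o.2).2 _ hσ)])
    have e := hV _ (mul_mem hσ hv) hne v hv hv1
    rw [show (⟨σ * v, setFix_le _ (mul_mem hσ hv)⟩ : setStab o.1)
      = ⟨σ, setFix_le _ hσ⟩ * ⟨v, setFix_le _ hv⟩ from rfl, map_mul, mul_eq_right] at e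
    exact e
  have hall : ∀ σ (hσ : σ ∈ setStab o.1), χ' ⟨σ, hσ⟩ = 1 := by
    have hle : setFix o.1 ⊔ K ≤ (χ'.ker).map (setStab o.1).subtype :=
      sup_le (fun σ hσ => ⟨⟨σ, setFix_le _ hσ⟩, hfix σ hσ, rfl⟩)
        (fun σ hσ => ⟨⟨σ, hσ.1⟩, hK σ hσ, rfl⟩)
    intro σ hσ
    rw [hsup] at hle
    obtain ⟨⟨σ', h'⟩, hk, rfl⟩ := hle hσ
    exact hk
  exact congrArg Subtype.val
    (hall τ.1 ⟨τ.2, MulAction.mem_stabilizer_iff.2 (congrArg Subtype.val hτ)⟩)

/-- A permutation carrying the reference octad to a given one. -/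
noncomputable def carry (o : Oct) : M24 := (exists_M24_map_octad oct0.2 o.2).choose

theorem carry_spec (o : Oct) : mv (carry o) oct0 = o :=
  Subtype.ext (exists_M24_map_octad oct0.2 o.2).choose_spec

/-- The lifts of octads made from a lift of the reference one. -/
noncomputable def octLift (a : X) (o : Oct) : X :=
  E.lift (permHom (carry o)) * a * (E.lift (permHom (carry o)))⁻¹

variable {E}

theorem proj_octLift {a : X} (ha : E.proj a = sgO oct0) (o : Oct) :
    E.proj (octLift E a o) = sgO o := by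
  rw [octLift, map_mul, map_mul, map_inv, E.proj_lift, ha, conj_sgO, carry_spec]

theorem conj_octLift {a : X} (ha : E.proj a = sgO oct0) {y : X} {τ : M24}
    (hy : E.proj y = permHom τ) (o : Oct) :
    y * octLift E a o * y⁻¹ = octLift E a (mv τ o) := by
  set L := E.lift (permHom (carry o))
  set L' := E.lift (permHom (carry (mv τ o)))
  have hfix : mv ((carry (mv τ o))⁻¹ * (τ * carry o)) oct0 = oct0 := by
    have h := congrArg (mv (carry (mv τ o))⁻¹) (carry_spec (mv τ o))
    rw [← mv_mul, inv_mul_cancel, mv_one] at h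
    rw [mv_mul, mv_mul, carry_spec]
    exact h.symm
  have hp : E.proj (L'⁻¹ * (y * L)) = permHom ((carry (mv τ o))⁻¹ * (τ * carry o)) := by
    rw [map_mul, map_mul, map_inv, E.proj_lift, E.proj_lift, hy, map_mul, map_mul, map_inv]
  have hc := (E.commute_of_cm (cm_stab E oct0 hfix) hp ha).eq
  show y * (L * a * L⁻¹) * y⁻¹ = L' * a * L'⁻¹
  calc y * (L * a * L⁻¹) * y⁻¹ = L' * (L'⁻¹ * (y * L) * a) * (y * L)⁻¹ := by group
    _ = L' * (a * (L'⁻¹ * (y * L))) * (y * L)⁻¹ := by rw [hc]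
    _ = _ := by group

/-- The sum of two octads meeting in four points. -/
def octSum (o o' : Oct) (h : o.1 ∆ o'.1 ∈ octads) : Oct := ⟨o.1 ∆ o'.1, h⟩

theorem sgO_octSum {o o' : Oct} (h : o.1 ∆ o'.1 ∈ octads) :
    sgO o * sgO o' = sgO (octSum o o' h) := signAut_mul _ _

/-- Lifts of octads, equivariant and additive on octads meeting in four points. -/
theorem exists_octLift (E : LExt 2 X Co0) : ∃ s : Oct → X,
    (∀ o, E.proj (s o) = sgO o) ∧
    (∀ y τ, E.proj y = permHom τ → ∀ o, y * s o * y⁻¹ = s (mv τ o)) ∧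
    (∀ o o', ∀ h : o.1 ∆ o'.1 ∈ octads, (o.1 ∩ o'.1).card = 4 → s o * s o' = s (octSum o o' h)) := by
  classical
  have hst := steps_ok
  obtain ⟨⟨i₀, j₀⟩, r, hr⟩ : ∃ p r, steps = p :: r := by
    cases hs : steps with
    | nil => exact absurd hs (by decide +kernel)
    | cons p r => exact ⟨p, r, rfl⟩
  rw [hr] at hst
  simp only [stepsOK, Bool.and_eq_true, decide_eq_true_eq] at hst
  obtain ⟨⟨⟨⟨hi, hj⟩, h4⟩, hx⟩, -⟩ := hst
  have hmem : ∀ k < basisList.length, basisList.getD k 0 ∈ octadList := fun k hk => by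
    rw [List.getD_eq_getElem _ _ hk]; exact basis_octads _ (List.getElem_mem _)
  set p := octOf _ (hmem _ hi)
  set q := octOf _ (hmem _ hj)
  have hpq : (p.1 ∩ q.1).card = 4 := by
    show (ptSet _ ∩ ptSet _).card = 4
    rw [← ptSet_and, card_ptSet]
    exact Nat.eq_of_beq_eq_true h4
  have hsum : p.1 ∆ q.1 ∈ octads := by
    show ptSet _ ∆ ptSet _ ∈ octads
    rw [← ptSet_xor]
    exact ptSet_mem_octads (List.contains_iff_mem.1 hx)
  set a := E.lift (sgO oct0)
  have ha : E.proj a = sgO oct0 := E.proj_lift _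
  set e := octLift E a p * octLift E a q * (octLift E a (octSum p q hsum))⁻¹ with he
  have hze : E.proj e = 1 := by
    rw [he, map_mul, map_mul, map_inv, proj_octLift ha, proj_octLift ha, proj_octLift ha,
      sgO_octSum hsum, mul_inv_cancel]
  have hconst : ∀ o o', ∀ h : o.1 ∆ o'.1 ∈ octads, (o.1 ∩ o'.1).card = 4 →
      octLift E a o * octLift E a o' = e * octLift E a (octSum o o' h) := by
    intro o o' h ho
    obtain ⟨g, g1, g2⟩ := exists_map_four hpq ho
    obtain ⟨y, hy⟩ := E.surj (permHom g)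
    have g3 : mv g (octSum p q hsum) = octSum o o' h := by
      refine Subtype.ext ?_
      show (g : Equiv.Perm GolayPt) • (p.1 ∆ q.1) = o.1 ∆ o'.1
      rw [smul_symmDiff_pts, ← g1, ← g2]
      rfl
    have := E.ker_central hze y
    subst g1 g2
    rw [← g3, ← conj_octLift ha hy, ← conj_octLift ha hy, ← conj_octLift ha hy]
    calc _ = y * (octLift E a p * octLift E a q * (octLift E a (octSum p q hsum))⁻¹) *
          octLift E a (octSum p q hsum) * y⁻¹ := by group
      _ = (y * e) * octLift E a (octSum p q hsum) * y⁻¹ := by rw [← he]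
      _ = _ := by rw [this]; group
  refine ⟨fun o => e * octLift E a o, fun o => ?_, fun y τ hy o => ?_, fun o o' h ho => ?_⟩
  · rw [map_mul, hze, one_mul, proj_octLift ha]
  · show y * (e * octLift E a o) * y⁻¹ = e * octLift E a (mv τ o)
    rw [← conj_octLift ha hy o]
    calc y * (e * octLift E a o) * y⁻¹ = (y * e) * octLift E a o * y⁻¹ := by group
      _ = _ := by rw [E.ker_central hze y]; group
  · calc e * octLift E a o * (e * octLift E a o')
        = e * (octLift E a o * e) * octLift E a o' := by group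
      _ = e * (e * octLift E a o) * octLift E a o' := by rw [E.ker_central hze]
      _ = e * e * (octLift E a o * octLift E a o') := by group
      _ = _ := by rw [sq_ker E hze, one_mul, hconst o o' h ho]

/-- The lifts of octads have order two. -/
theorem octLift_sq {s : Oct → X} (hs : ∀ o, E.proj (s o) = sgO o)
    (hconj : ∀ y τ, E.proj y = permHom τ → ∀ o, y * s o * y⁻¹ = s (mv τ o))
    (hadd : ∀ o o', ∀ h : o.1 ∆ o'.1 ∈ octads, (o.1 ∩ o'.1).card = 4 →
      s o * s o' = s (octSum o o' h)) (o : Oct) : s o * s o = 1 := by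
  classical
  have hz : ∀ o, E.proj (s o * s o) = 1 := fun o => by rw [map_mul, hs, signs_sq (sgO_mem o)]
  have hconst : ∀ o, s o * s o = s oct0 * s oct0 := by
    intro o
    obtain ⟨g, hg⟩ := exists_M24_map_octad oct0.2 o.2
    obtain ⟨y, hy⟩ := E.surj (permHom g)
    rw [show o = mv g oct0 from Subtype.ext hg.symm, ← hconj y g hy]
    calc _ = y * (s oct0 * s oct0) * y⁻¹ := by group
      _ = _ := by rw [E.ker_central (hz oct0) y]; group
  have hst := steps_ok
  obtain ⟨⟨i₀, j₀⟩, r, hr⟩ : ∃ p r, steps = p :: r := by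
    cases hs : steps with
    | nil => exact absurd hs (by decide +kernel)
    | cons p r => exact ⟨p, r, rfl⟩
  rw [hr] at hst
  simp only [stepsOK, Bool.and_eq_true, decide_eq_true_eq] at hst
  obtain ⟨⟨⟨⟨hi, hj⟩, h4⟩, hx⟩, -⟩ := hst
  have hmem : ∀ k < basisList.length, basisList.getD k 0 ∈ octadList := fun k hk => by
    rw [List.getD_eq_getElem _ _ hk]; exact basis_octads _ (List.getElem_mem _)
  set p := octOf _ (hmem _ hi)
  set q := octOf _ (hmem _ hj)
  have hpq : (p.1 ∩ q.1).card = 4 := by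
    show (ptSet _ ∩ ptSet _).card = 4
    rw [← ptSet_and, card_ptSet]
    exact Nat.eq_of_beq_eq_true h4
  have hsum : p.1 ∆ q.1 ∈ octads := by
    show ptSet _ ∆ ptSet _ ∈ octads
    rw [← ptSet_xor]
    exact ptSet_mem_octads (List.contains_iff_mem.1 hx)
  have hcom : s p * s q = s q * s p :=
    (E.commute_of_cm (cm_signs E (sgO_mem p) (sgO_mem q)) (hs p) (hs q)).eq
  have e1 := hconst (octSum p q hsum)
  rw [← hadd p q hsum hpq] at e1
  have e2 : s p * s q * (s p * s q) = (s p * s p) * (s q * s q) := by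
    rw [mul_assoc, ← mul_assoc (s q), ← hcom]; group
  rw [e2, hconst p, hconst q, mul_eq_left] at e1
  rw [hconst o, e1]

end Cfsg.Agent.H40.Co
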