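import Cfsg.Agent.H40.Co.SignsData
import Cfsg.Agent.H92.CrossGroup
import Cfsg.Agent.Golay.OctadAlt

/-!
Kernel checks on the octad moves and steps used to lift sign changes.
-/

set_option autoImplicit false

namespace Cfsg.Agent.H40.Co

open Cfsg Cfsg.Agent.Golay

/-! ### Checks -/

/-- The list grown by sums. -/
def grow : List ℕ → List (ℕ × ℕ) → List ℕ
  | K, [] => K
  | K, (i, j) :: r => grow (K ++ [K.getD i 0 ^^^ K.getD j 0]) r

/-- Each sum is of two earlier members meeting in four points and is an octad. -/
def stepsOK : List ℕ → List (ℕ × ℕ) → Bool
  | _, [] => true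
  | K, (i, j) :: r => decide (i < K.length ∧ j < K.length) &&
      Nat.beq (popCnt (K.getD i 0 &&& K.getD j 0)) 4 &&
      octadList.contains (K.getD i 0 ^^^ K.getD j 0) &&
      stepsOK (K ++ [K.getD i 0 ^^^ K.getD j 0]) r

/-- The moves fix the reference octad and their differences span the code. -/
def movesOK : Bool :=
  octadList.contains refOct &&
  moves.all (fun p => inM24 p.1 && tblImg p.1 refOct == refOct && octadList.contains p.2 &&
    octadList.contains refOct) &&
  decide (combos.length = 12) &&
  (List.range 12).all fun k => (combos.getD k []).all (fun i => decide (i < moves.length)) &&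
    (combos.getD k []).foldl
      (fun a i => a ^^^ ((moves.getD i (0, 0)).2 ^^^ tblImg (moves.getD i (0, 0)).1 (moves.getD i (0, 0)).2)) 0
      == basisList.getD k 0

theorem moves_ok : movesOK = true := by decide +kernel

theorem steps_ok : stepsOK basisList steps = true := by decide +kernel

theorem grow_covers : (octadList.all fun o => (grow basisList steps).contains o) = true := by
  decide +kernel

theorem basis_octads : ∀ b ∈ basisList, b ∈ octadList := by decide +kernel

end Cfsg.Agent.H40.Co
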