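import Cfsg.Agent.Golay.Code

/-! Generated data on the sign changes: moves fixing an octad, and a closure of the basis octads. -/

set_option autoImplicit false

namespace Cfsg.Agent.H40.Co

/-- The reference octad. -/
def refOct : ℕ := 5279

/-- Permutations fixing the reference octad, with an octad each. -/
def moves : List (ℕ × ℕ) := [(694802675555458544550008308220888290, 8688833), (694802675555458544550008308220888290, 2313249), (694802675555458544550008308220888290, 402026), (694802675555458544550008308220888290, 14716939), (694802675555458544550008308220888290, 213833), (694802675555458544550008308220888290, 563843), (694802675555458544550008308220888290, 1075305), (694802675555458544550008308220888290, 1405448), (694802675555458544550008308220888290, 1369154), (694802675555458544550008308220888290, 8773776), (465371241902671240706578904745346055, 3216208), (465371241902671240706578904745346055, 2313249)]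

/-- Each basis octad as a sum of differences. -/
def combos : List (List ℕ) := [[0, 7, 8, 9], [0, 7, 8, 9, 11], [1, 2, 6, 7, 10], [0, 3, 4, 5, 6, 7, 8, 9, 11], [0, 1, 2, 3, 6, 8, 9, 11], [0, 1, 3, 4, 8, 9, 11], [0, 1, 3, 5, 6, 7, 9, 10], [1, 4, 5, 6, 11], [0, 7, 9, 11], [0, 2, 3, 5, 6, 8, 9, 10, 11], [2, 4, 7, 11], [4, 5, 6, 7, 8, 9, 10]]

/-- Sums of two earlier octads meeting in four points. -/
def steps : List (ℕ × ℕ) := [(0, 1), (0, 2), (0, 3), (0, 4), (0, 5), (0, 6), (0, 7), (0, 8),
  (0, 10), (0, 11), (1, 3), (1, 4), (1, 5), (1, 6), (1, 7), (1, 8),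
  (1, 9), (1, 10), (1, 11), (1, 13), (1, 14), (1, 15), (1, 16), (1, 17),
  (1, 19), (1, 21), (2, 3), (2, 4), (2, 5), (2, 6), (2, 7), (2, 8),
  (2, 9), (2, 10), (2, 11), (2, 16), (2, 17), (2, 18), (2, 19), (2, 20),
  (2, 21), (2, 22), (2, 23), (2, 24), (2, 25), (2, 26), (2, 27), (2, 28),
  (2, 29), (2, 30), (2, 32), (2, 33), (3, 4), (3, 6), (3, 7), (3, 8),
  (3, 9), (3, 10), (3, 11), (3, 15), (3, 16), (3, 17), (3, 18), (3, 20),
  (3, 21), (3, 24), (3, 25), (3, 26), (3, 27), (3, 28), (3, 30), (3, 35),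
  (3, 37), (3, 39), (3, 40), (3, 41), (3, 43), (3, 44), (3, 45), (3, 46),
  (3, 47), (3, 49), (3, 50), (3, 54), (3, 55), (3, 57), (3, 60), (4, 5),
  (4, 7), (4, 8), (4, 9), (4, 10), (4, 11), (4, 16), (4, 17), (4, 18),
  (4, 19), (4, 20), (4, 24), (4, 25), (4, 27), (4, 28), (4, 29), (4, 30),
  (4, 34), (4, 36), (4, 40), (4, 41), (4, 42), (4, 43), (4, 44), (4, 46),
  (4, 48), (4, 51), (4, 52), (4, 56), (4, 57), (4, 60), (4, 65), (4, 66),
  (4, 67), (4, 69), (4, 70), (4, 74), (4, 75), (4, 77), (4, 78), (4, 79),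
  (4, 81), (4, 84), (4, 88), (4, 91), (4, 92), (5, 6), (5, 7), (5, 8),
  (5, 9), (5, 10), (5, 11), (5, 19), (5, 20), (5, 21), (5, 25), (5, 26),
  (5, 27), (5, 29), (5, 36), (5, 42), (5, 44), (5, 45), (5, 46), (5, 48),
  (5, 51), (5, 52), (5, 56), (5, 58), (5, 59), (5, 61), (5, 64), (5, 65),
  (5, 66), (5, 67), (5, 68), (5, 69), (5, 70), (5, 73), (5, 74), (5, 81),
  (5, 82), (5, 87), (5, 88), (5, 100), (5, 101), (5, 102), (5, 106), (5, 108),
  (5, 112), (5, 115), (5, 119), (5, 120), (5, 122), (5, 129), (5, 130), (5, 133),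
  (5, 134), (5, 139), (5, 144), (6, 7), (6, 8), (6, 9), (6, 10), (6, 11),
  (6, 18), (6, 19), (6, 21), (6, 26), (6, 29), (6, 30), (6, 37), (6, 42),
  (6, 43), (6, 44), (6, 45), (6, 49), (6, 50), (6, 58), (6, 59), (6, 61),
  (6, 68), (6, 69), (6, 70), (6, 76), (6, 80), (6, 82), (6, 89), (6, 90),
  (6, 97), (6, 99), (6, 100), (6, 101), (6, 102), (6, 103), (6, 104), (6, 109),
  (6, 112), (6, 113), (6, 123), (6, 131), (6, 132), (6, 146), (6, 147), (6, 148),
  (6, 149), (6, 150), (6, 152), (6, 155), (6, 157), (6, 158), (6, 162), (6, 172),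
  (6, 173), (6, 179), (6, 189), (6, 198), (7, 8), (7, 9), (7, 10), (7, 19),
  (7, 20), (7, 21), (7, 27), (7, 28), (7, 29), (7, 30), (7, 31), (7, 33),
  (7, 34), (7, 37), (7, 43), (7, 44), (7, 46), (7, 50), (7, 60), (7, 61),
  (7, 67), (7, 68), (7, 69), (7, 70), (7, 75), (7, 80), (7, 81), (7, 83),
  (7, 86), (7, 87), (7, 90), (7, 91), (7, 102), (7, 103), (7, 104), (7, 109),
  (7, 111), (7, 112), (7, 115), (7, 122), (7, 126), (7, 133), (7, 142), (7, 148),
  (7, 149), (7, 150), (7, 151), (7, 153), (7, 157), (7, 160), (7, 164), (7, 167),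
  (7, 173), (7, 176), (7, 184), (7, 185), (7, 186), (7, 200), (7, 202), (7, 203),
  (7, 205), (7, 208), (7, 212), (7, 218), (7, 220), (7, 222), (7, 231), (7, 232),
  (7, 234), (7, 244), (7, 250), (8, 9), (8, 11), (8, 20), (8, 28), (8, 29),
  (8, 37), (8, 45), (8, 46), (8, 59), (8, 60), (8, 61), (8, 62), (8, 68),
  (8, 69), (8, 70), (8, 72), (8, 73), (8, 75), (8, 76), (8, 81), (8, 91),
  (8, 103), (8, 104), (8, 122), (8, 123), (8, 125), (8, 128), (8, 134), (8, 135),
  (8, 148), (8, 149), (8, 150), (8, 159), (8, 160), (8, 161), (8, 165), (8, 175),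
  (8, 180), (8, 190), (8, 201), (8, 202), (8, 203), (8, 208), (8, 209), (8, 221),
  (8, 226), (8, 232), (8, 233), (8, 243), (8, 245), (8, 246), (8, 247), (8, 257),
  (8, 258), (8, 261), (8, 263), (8, 265), (8, 277), (8, 286), (8, 288), (8, 289),
  (8, 290), (8, 300), (8, 301), (8, 321), (9, 10), (9, 11), (9, 12), (9, 13),
  (9, 14), (9, 15), (9, 16), (9, 17), (9, 18), (9, 19), (9, 20), (9, 21),
  (9, 29), (9, 30), (9, 31), (9, 34), (9, 35), (9, 45), (9, 50), (9, 52),
  (9, 61), (9, 69), (9, 71), (9, 72), (9, 76), (9, 90), (9, 91), (9, 93),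
  (9, 95), (9, 103), (9, 104), (9, 106), (9, 108), (9, 114), (9, 115), (9, 125),
  (9, 130), (9, 132), (9, 134), (9, 150), (9, 152), (9, 154), (9, 157), (9, 163),
  (9, 170), (9, 175), (9, 176), (9, 182), (9, 188), (9, 202), (9, 203), (9, 204),
  (9, 207), (9, 214), (9, 221), (9, 225), (9, 238), (9, 245), (9, 251), (9, 260),
  (9, 261), (9, 267), (9, 272), (9, 274), (9, 279), (9, 297), (9, 300), (9, 302),
  (9, 314), (9, 315), (9, 318), (9, 328), (9, 329), (9, 332), (9, 333), (9, 334),
  (9, 343), (9, 348), (9, 357), (9, 358), (9, 368), (9, 369), (9, 380), (9, 388),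
  (10, 11), (10, 21), (10, 30), (10, 31), (10, 32), (10, 35), (10, 36), (10, 46),
  (10, 52), (10, 77), (10, 80), (10, 82), (10, 94), (10, 104), (10, 115), (10, 116),
  (10, 118), (10, 119), (10, 120), (10, 121), (10, 138), (10, 143), (10, 150), (10, 153),
  (10, 162), (10, 168), (10, 176), (10, 177), (10, 184), (10, 185), (10, 205), (10, 206),
  (10, 215), (10, 219), (10, 222), (10, 229), (10, 234), (10, 269), (10, 270), (10, 271),
  (10, 272), (10, 279), (10, 282), (10, 284), (10, 293), (10, 302), (10, 315), (10, 323),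
  (10, 327), (10, 328), (10, 341), (10, 368), (10, 393), (10, 394), (10, 399), (10, 405),
  (10, 416), (10, 422), (10, 427), (10, 429), (10, 449), (10, 467), (10, 473), (11, 63),
  (11, 93), (11, 98), (11, 105), (11, 106), (11, 107), (11, 108), (11, 136), (11, 139),
  (11, 155), (11, 156), (11, 181), (11, 183), (11, 192), (11, 211), (11, 213), (11, 214),
  (11, 216), (11, 229), (11, 236), (11, 248), (11, 256), (11, 257), (11, 258), (11, 329),
  (11, 331), (11, 342), (11, 346), (11, 359), (11, 380), (11, 391), (11, 397), (11, 401),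
  (11, 407), (11, 413), (11, 428), (11, 444), (11, 458), (11, 494), (11, 504), (11, 513),
  (11, 530), (0, 89), (0, 140), (0, 166), (0, 191), (0, 196), (0, 227), (0, 240),
  (0, 241), (0, 243), (0, 263), (0, 281), (0, 292), (0, 299), (0, 320), (0, 337),
  (0, 339), (0, 360), (0, 376), (0, 386), (0, 485), (0, 490), (0, 505), (0, 515),
  (0, 522), (0, 538), (0, 554), (0, 572), (1, 133), (1, 178), (1, 235), (1, 252),
  (1, 311), (1, 316), (1, 350), (1, 354), (1, 418), (1, 446), (1, 470), (1, 499),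
  (1, 517), (2, 187), (2, 189), (2, 195), (2, 223), (2, 224), (2, 239), (2, 242),
  (2, 268), (2, 325), (2, 373), (2, 384), (2, 438), (2, 481), (2, 527), (2, 533),
  (3, 117), (3, 295), (3, 310), (3, 317), (3, 381), (3, 458), (3, 472), (3, 484),
  (3, 512), (3, 529), (4, 273), (4, 304), (4, 417), (4, 433), (4, 456), (4, 471),
  (4, 486), (4, 498), (4, 563), (5, 210), (5, 291), (5, 322), (5, 351), (5, 382),
  (5, 429), (5, 445), (5, 510), (5, 564), (5, 570), (5, 576), (6, 280), (6, 303),
  (6, 305), (6, 347), (6, 361), (6, 383), (6, 474), (6, 494), (6, 505), (6, 531),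
  (6, 545), (7, 371), (7, 375), (7, 425), (7, 467), (7, 482), (7, 607), (7, 653),
  (8, 426), (8, 573), (9, 500), (12, 192), (12, 194), (12, 226), (12, 361), (12, 456),
  (12, 469), (12, 553), (13, 180), (13, 236), (13, 323), (13, 382), (13, 437), (13, 531),
  (13, 568), (14, 311), (14, 324), (14, 449), (14, 474), (14, 504), (15, 375), (15, 446),
  (15, 665), (16, 346), (16, 454), (16, 517), (17, 387), (17, 426), (17, 466), (18, 472),
  (20, 471), (22, 238), (22, 305), (22, 389), (22, 466), (23, 182), (23, 445), (23, 454),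
  (23, 522), (24, 227), (24, 321), (24, 374), (24, 516), (25, 191), (25, 514), (26, 347),
  (27, 665), (29, 351), (31, 297), (32, 527), (33, 390), (34, 460), (38, 374), (38, 551),
  (40, 428), (40, 526), (41, 388), (47, 512), (47, 569), (50, 430), (55, 472), (64, 325),
  (64, 376), (64, 568), (65, 470), (66, 471), (77, 533), (78, 386), (87, 665), (99, 461),
  (102, 527), (118, 474), (145, 568)]

end Cfsg.Agent.H40.Co
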