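import Cfsg.Agent.H40.Co.ThreeData
import Cfsg.Agent.H40.Co.Gens

/-!
Kernel check that the generators for the prime 3 commute.
-/

set_option autoImplicit false
set_option maxRecDepth 100000

namespace Cfsg.Agent.H40.Co

open Cfsg Cfsg.Agent.Golay Cfsg.Agent.H92.LeechOrbit

theorem three_comm : commOK threeGens = true := by decide +kernel

end Cfsg.Agent.H40.Co
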