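import Cfsg.Agent.H40.Co.ThreeData
import Cfsg.Agent.H40.Co.Gens

/-!
Kernel check of the conjugates of the generators for the prime 3 by permutations.
-/

set_option autoImplicit false
set_option maxRecDepth 100000

namespace Cfsg.Agent.H40.Co

open Cfsg Cfsg.Agent.Golay Cfsg.Agent.H92.LeechOrbit

theorem three_conj : ((List.range 3).all fun k => (List.range 6).all fun i =>
    (((threeConj.getD k []).getD i []).all fun x => decide (x < 6)) &&
      conjOK threeGens (nth threeTop k) (nth threeGens i) ((threeConj.getD k []).getD i [])) = true := by
  decide +kernel

end Cfsg.Agent.H40.Co
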