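import Cfsg.Agent.H40.Co.ThreeData
import Cfsg.Agent.H40.Co.Gens

/-!
Kernel check of the witnesses for pairs of generators for the prime 3.
-/

set_option autoImplicit false
set_option maxRecDepth 100000

namespace Cfsg.Agent.H40.Co

open Cfsg Cfsg.Agent.Golay Cfsg.Agent.H92.LeechOrbit

/-- The admissible shapes of the images. -/
def shapeOK (i j : ℕ) (X Y : List ℕ) : Bool :=
  ((X == [i, i]) && (Y == [j])) || ((X == [i]) && (Y == [j, j])) || ((X == [j]) && (Y == [i]))

theorem three_wit_shapes : (threeWits.all (fun p => shapeOK p.1 p.2.1 p.2.2.2.1 p.2.2.2.2) &&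
    (List.range 6).all fun i => (List.range 6).all fun j =>
      decide (j ≤ i) || threeWits.any fun p => Nat.beq p.1 i && Nat.beq p.2.1 j) = true := by
  decide +kernel

theorem three_wit : (threeWits.all fun p =>
    conjOK threeGens p.2.2.1 (nth threeGens p.1) p.2.2.2.1 &&
      conjOK threeGens p.2.2.1 (nth threeGens p.2.1) p.2.2.2.2) = true := by
  decide +kernel

end Cfsg.Agent.H40.Co
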