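import Cfsg.Agent.H40.Co.ThreeCheck
import Cfsg.Agent.H40.Co.ThreeCheckComm
import Cfsg.Agent.H40.Co.ThreeCheckConj
import Cfsg.Agent.H40.Co.ThreeCheckWit
import Cfsg.Agent.H94.Mult.Main

/-!
Co0 has no stem extension with kernel of order three: an inverted elementary abelian subgroup of
order 729 extended by permutations commuting with the inverting sign change.
-/

set_option autoImplicit false

namespace Cfsg.Agent.H40.Co

open Cfsg Cfsg.Agent.Golay Cfsg.Agent.H92.LeechOrbit Cfsg.Agent.Linear.Mult
open scoped commutatorElement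

attribute [local irreducible] wordEl threeGens threeTop threeLow threeInv threeWits eqP conjOK
  threeConj threeTblConj threeChain threeTopChain threeTbls

theorem noStem_of_trivial {G : Type} [Group G] [Finite G] (h : Cfsg.HasCyclicSchurMultiplier G 1)
    {l : ℕ} (hl : l.Prime) : NoStem l G := fun Γ _ _ σ hσ e => by
  rw [H50.hasTrivialMultiplier_iff.1 h Γ σ hσ, Subgroup.card_bot] at e
  exact hl.one_lt.ne e

theorem gen_top_range (i : ℕ) : gen threeTop i ∈ H92.LeechTwo.permHom.range := by
  have h := three_ok
  simp only [Bool.and_eq_true] at h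
  obtain ⟨⟨⟨⟨⟨⟨⟨-, -⟩, hok⟩, hT⟩, -⟩, -⟩, -⟩, -⟩ := h
  have hmap : threeTop = threeTbls.map fun T => [Atom.mono 0 0 T] := by unfold threeTop; rfl
  unfold gen
  by_cases hi : i < threeTop.length
  · have hi' : i < threeTbls.length := by rw [hmap, List.length_map] at hi; exact hi
    have e : nth threeTop i = [Atom.mono 0 0 threeTbls[i]] := by
      rw [nth, List.getD_eq_getElem _ _ hi]
      simp only [hmap, List.getElem_map]
    have hat : atomOK (.mono 0 0 threeTbls[i]) = true := by
      have := ok_nth hok i
      rw [e] at this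
      simpa using this
    have hTi : inM24 threeTbls[i] = true := List.all_eq_true.1 hT _ (List.getElem_mem _)
    rw [e]
    refine ⟨⟨mkPerm threeTbls[i], mem_M24_of_inM24 hTi⟩, ?_⟩
    simp only [wordEl, one_mul]
    rw [CoTwo.wordEl_mono hTi hat]
    rfl
  · rw [nth, List.getD_eq_default _ _ (by omega)]
    simp only [wordEl]
    exact one_mem _

theorem nth_low {i : ℕ} (hi : i < 2) : nth threeLow i = nth threeTop i := by
  have h := three_ok
  simp only [Bool.and_eq_true] at h
  have hl : threeTop.length = 3 := Nat.eq_of_beq_eq_true h.1.2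
  have hmap : threeLow = threeTop.take 2 := by unfold threeLow; rfl
  have h1 : i < (threeTop.take 2).length := by rw [List.length_take, hl]; omega
  rw [nth, nth, hmap, List.getD_eq_getElem _ _ h1, List.getElem_take,
    List.getD_eq_getElem _ _ (by omega)]

/-- An element carrying generators into a finite subgroup generated by them normalises it. -/
theorem mem_normalizer_of_step {G : Type*} [Group G] [Finite G] {S : Set G} {g : G}
    (h : ∀ a ∈ S, g * a * g⁻¹ ∈ Subgroup.closure S) :
    g ∈ Subgroup.normalizer (Subgroup.closure S : Set G) := by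
  have hle : (Subgroup.closure S).map (MulAut.conj g).toMonoidHom ≤ Subgroup.closure S := by
    rw [MonoidHom.map_closure, Subgroup.closure_le]
    rintro _ ⟨a, ha, rfl⟩
    exact h a ha
  have he := Subgroup.eq_of_le_of_card_ge hle
    (Subgroup.card_map_of_injective (MulAut.conj g).injective).ge
  rw [Subgroup.mem_normalizer_iff]
  intro a
  refine ⟨fun ha => hle (Subgroup.mem_map_of_mem _ ha), fun ha => ?_⟩
  have ha' : g * a * g⁻¹ ∈ (Subgroup.closure S).map (MulAut.conj g).toMonoidHom := he.symm ▸ ha
  obtain ⟨b, hb, hbe⟩ := ha'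
  rwa [← (MulAut.conj g).injective (a₁ := b) (a₂ := a) hbe]

theorem noStem_three : NoStem 3 Co0 := by
  have hp := Nat.prime_three
  haveI := Fact.mk hp
  have h := three_ok
  simp only [Bool.and_eq_true] at h
  obtain ⟨⟨⟨⟨⟨⟨⟨hok, hti⟩, htk⟩, -⟩, hwok⟩, hlen⟩, hlenT⟩, hlenL⟩ := h
  have hlen : threeGens.length = 6 := Nat.eq_of_beq_eq_true hlen
  have hlenT : threeTop.length = 3 := Nat.eq_of_beq_eq_true hlenT
  have hlenL : threeLow.length = 2 := Nat.eq_of_beq_eq_true hlenL
  have htop := three_top
  simp only [Bool.and_eq_true, List.all_eq_true] at htop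
  obtain ⟨⟨⟨hkpow, hlcomm⟩, hkchain⟩, htcomm⟩ := htop
  have hlok : okAll threeLow = true := by
    unfold okAll
    rw [List.all_eq_true]
    intro w hw
    obtain ⟨i, hi, rfl⟩ := List.getElem_of_mem hw
    have := ok_nth htk i
    rw [← nth_low (show i < 2 by omega), nth, List.getD_eq_getElem _ _ hi] at this
    exact this
  have hlpow : powOK 3 threeLow = true := by
    unfold powOK at hkpow ⊢
    rw [List.all_eq_true] at hkpow ⊢
    intro w hw
    obtain ⟨i, hi, rfl⟩ := List.getElem_of_mem hw
    have := hkpow (nth threeTop i)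
      (by rw [nth, List.getD_eq_getElem _ _ (by omega)]; exact List.getElem_mem _)
    rw [← nth_low (show i < 2 by omega), nth, List.getD_eq_getElem _ _ hi] at this
    exact this
  have glow : ∀ i < 2, gen threeLow i = gen threeTop i := fun i hi => by rw [gen, gen, nth_low hi]
  -- the permutations
  set B : Subgroup Co0 := Subgroup.closure (gen threeLow '' {j | j < 2}) with hB
  set y := gen threeTop 2 with hy
  have hy3 : y ^ 3 = 1 := gen_pow htk hkpow (by omega)
  have hchain := hkchain
  simp only [chainOK, List.all_eq_true, List.mem_range, Bool.and_eq_true] at hchain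
  have hlchain : chainOK threeLow threeTopChain = true := by
    simp only [chainOK, List.all_eq_true, List.mem_range, Bool.and_eq_true]
    intro i hi
    obtain ⟨hk, hm⟩ := hchain i (by omega)
    refine ⟨fun j hj => ?_, ?_⟩
    · rw [nth_low (by omega)]; exact hk j hj
    · rw [nth_low (by omega)]; exact hm
  have hyB : y ∉ B := by
    obtain ⟨hk, hm⟩ := hchain 2 (by omega)
    intro hmem
    refine notMem_setFixes (ok_nth htk 2) hm ((Subgroup.closure_le _).2 ?_ hmem)
    rintro _ ⟨j, hj, rfl⟩
    rw [SetLike.mem_coe, glow j hj]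
    exact mem_setFixes (ok_nth htk j) (hk j hj)
  have htc := three_top_conj
  simp only [List.all_eq_true, List.mem_range, Bool.and_eq_true, decide_eq_true_eq] at htc
  have hyn : Subgroup.zpowers y ≤ Subgroup.normalizer (B : Set Co0) := by
    rw [Subgroup.zpowers_le]
    refine mem_normalizer_of_step ?_
    rintro _ ⟨i, hi, rfl⟩
    rw [hy, gen, gen, conj_of_conjOK hlok (ok_nth htk 2) (ok_nth hlok i) (htc i hi).2]
    exact prod_gen_mem (htc i hi).1
  set K : Subgroup Co0 := B ⊔ Subgroup.zpowers y with hK
  have hKgen : K ≤ Subgroup.closure (gen threeTop '' {j | j < 3}) := by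
    refine sup_le ((Subgroup.closure_le _).2 ?_) (Subgroup.zpowers_le.2 (gen_mem (by norm_num)))
    rintro _ ⟨j, hj, rfl⟩
    rw [SetLike.mem_coe, glow j hj]
    exact gen_mem (Nat.lt_succ_of_lt hj)
  have hKP : K ≤ H92.LeechTwo.permHom.range := by
    refine hKgen.trans ((Subgroup.closure_le _).2 ?_)
    rintro _ ⟨j, -, rfl⟩
    exact gen_top_range j
  have hKcard : 3 ^ 3 ∣ Nat.card ↥K := by
    rw [hK, card_sup_of_normalizes hyn (zpowers_inf_eq_one hp hy3 hyB), Nat.card_zpowers,
      orderOf_eq_prime hy3 (fun e => hyB (e ▸ one_mem B)), show (3 : ℕ) ^ 3 = 3 ^ 2 * 3 from rfl]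
    have h2 := pow_dvd_card_gens hp (l := 3) hlok hlpow hlcomm hlchain
    rw [hlenL] at h2
    exact Nat.mul_dvd_mul h2 dvd_rfl
  -- the inverting sign change
  set t := wordEl threeInv with ht
  have hinv := three_inv
  simp only [Bool.and_eq_true, List.all_eq_true] at hinv
  obtain ⟨htt, hinv⟩ := hinv
  have htt' : t * t = 1 := by
    have e := eq_of_eqP (L := [threeInv, threeInv]) (M := []) (fun w hw => by
      simp only [List.mem_cons, List.not_mem_nil, or_false, or_self] at hw
      rw [hw]; exact hti) (by simp) htt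
    simp only [List.map_cons, List.map_nil, List.prod_cons, List.prod_nil, mul_one] at e
    exact e
  have hA : ∀ i < 6, t * gen threeGens i * t⁻¹ = (gen threeGens i)⁻¹ := by
    intro i hi
    have e := eq_of_eqP (fun w hw => by
      simp only [List.mem_cons, List.not_mem_nil, or_false] at hw
      rcases hw with rfl | rfl | rfl
      · exact hti
      · exact ok_nth hok i
      · exact hti) (fun w hw => by rw [List.eq_of_mem_replicate hw]; exact ok_nth hok i)
      (hinv (nth threeGens i)
        (by rw [nth, List.getD_eq_getElem _ _ (by omega)]; exact List.getElem_mem _))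
    simp only [List.map_cons, List.map_nil, List.prod_cons, List.prod_nil, mul_one,
      List.map_replicate, List.prod_replicate] at e
    rw [show t⁻¹ = t from inv_eq_of_mul_eq_one_right htt', mul_assoc, eq_inv_iff_mul_eq_one]
    show t * (gen threeGens i * t) * gen threeGens i = 1
    rw [show t * (gen threeGens i * t) = gen threeGens i ^ 2 from e, ← pow_succ]
    exact gen_pow hok three_pow (by omega)
  have htk3 : ∀ i < 3, Commute t (gen threeTop i) := by
    intro i hi
    have e := eq_of_eqP (fun w hw => by
      simp only [List.mem_cons, List.not_mem_nil, or_false] at hw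
      rcases hw with rfl | rfl
      · exact hti
      · exact ok_nth htk i) (fun w hw => by
      simp only [List.mem_cons, List.not_mem_nil, or_false] at hw
      rcases hw with rfl | rfl
      · exact ok_nth htk i
      · exact hti)
      (htcomm (nth threeTop i)
        (by rw [nth, List.getD_eq_getElem _ _ (by omega)]; exact List.getElem_mem _))
    simp only [List.map_cons, List.map_nil, List.prod_cons, List.prod_nil, mul_one] at e
    exact e
  have hot : orderOf t ∣ 2 := orderOf_dvd_of_pow_eq_one (by rw [pow_two, htt'])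
  have hconj := three_conj
  simp only [List.all_eq_true, List.mem_range, Bool.and_eq_true, decide_eq_true_eq] at hconj
  have hshape := three_wit_shapes
  simp only [Bool.and_eq_true, List.all_eq_true, List.mem_range, Bool.or_eq_true, List.any_eq_true,
    decide_eq_true_eq] at hshape
  obtain ⟨hshape, hcover⟩ := hshape
  have hwit := three_wit
  simp only [List.all_eq_true, Bool.and_eq_true] at hwit
  simp only [List.all_eq_true] at hwok
  refine noStem_of_killed hp fun Γ _ _ E => ?_
  have hkey : ∀ i j, i < j → j < 6 → E.cm (gen threeGens i) (gen threeGens j) = 1 := by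
    intro i j hij hj
    obtain hle | ⟨p, hpm, hpi, hpj⟩ := hcover i (by omega) j hj
    · omega
    · obtain ⟨a, b, g, X, Y⟩ := p
      obtain rfl : a = i := Nat.eq_of_beq_eq_true hpi
      obtain rfl : b = j := Nat.eq_of_beq_eq_true hpj
      have hg : g.all atomOK = true := List.all_eq_true.2 (hwok _ hpm)
      have e1 := conj_of_conjOK hok hg (ok_nth hok a) (hwit _ hpm).1
      have e2 := conj_of_conjOK hok hg (ok_nth hok b) (hwit _ hpm).2
      have hcom := gen_comm hok three_comm (show a < threeGens.length by omega)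
        (show b < threeGens.length by omega)
      have hs := hshape _ hpm
      simp only [shapeOK, Bool.or_eq_true, Bool.and_eq_true, beq_iff_eq] at hs
      rcases hs with (⟨rfl, rfl⟩ | ⟨rfl, rfl⟩) | ⟨rfl, rfl⟩ <;>
        simp only [List.map_cons, List.map_nil, List.prod_cons, List.prod_nil, mul_one] at e1 e2
      · exact cm_eq_one_of_power E hcom (i := 2) (j := 1) (e1.trans (pow_two _).symm)
          (e2.trans (pow_one _).symm) (by decide)
      · exact cm_eq_one_of_power E hcom (i := 1) (j := 2) (e1.trans (pow_one _).symm)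
          (e2.trans (pow_two _).symm) (by decide)
      · exact H95.KilledInverted.cm_eq_one_of_conj E (by norm_num) hcom _
          (Or.inr (Or.inr (Or.inl ⟨e1, e2⟩)))
  set A : Set Co0 := gen threeGens '' {j | j < 6} with hAdef
  have hAA : ∀ a ∈ A, ∀ b ∈ A, E.cm a b = 1 := by
    rintro _ ⟨i, hi, rfl⟩ _ ⟨j, hj, rfl⟩
    rcases lt_trichotomy i j with hlt | rfl | hlt
    · exact hkey i j hlt hj
    · exact E.cm_self _
    · exact E.cm_symm (hkey j i hlt hi)
  have hnorm : ∀ k ∈ K, ∀ a ∈ A, k * a * k⁻¹ ∈ Subgroup.closure A := by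
    intro k hk a ha
    have hN : Subgroup.closure (gen threeTop '' {j | j < 3}) ≤
        Subgroup.normalizer (Subgroup.closure A : Set Co0) := by
      rw [Subgroup.closure_le]
      rintro _ ⟨i, hi, rfl⟩
      refine mem_normalizer_of_step ?_
      rintro _ ⟨j, hj, rfl⟩
      rw [gen, gen, conj_of_conjOK hok (ok_nth htk i) (ok_nth hok j) (hconj i hi j hj).2]
      exact prod_gen_mem (hconj i hi j hj).1
    exact (Subgroup.mem_normalizer_iff.1 (hN (hKgen hk)) a).1 (Subgroup.subset_closure ha)
  have hTK : ∀ k ∈ K, Commute t k ∧ E.cm t k = 1 := by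
    intro k hk
    refine cm_eq_one_of_closure E (S := gen threeTop '' {j | j < 3}) ?_ k (hKgen hk)
    rintro _ ⟨i, hi, rfl⟩
    refine ⟨htk3 i hi, E.cm_eq_one_of_coprime (htk3 i hi) ?_⟩
    exact Nat.Coprime.coprime_dvd_left hot
      (Nat.Coprime.coprime_dvd_right
        (orderOf_dvd_of_pow_eq_one (gen_pow htk hkpow (by rw [hlenT]; exact hi))) (by norm_num))
  have hKk : E.Killed K :=
    (E.killed_of_noStem (noStem_of_trivial H94.Mult.hasTrivialMultiplier_M24 hp) H92.LeechTwo.permHom
      H92.LeechTwo.permHom_injective).mono hKP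
  obtain ⟨hk, hc⟩ := killed_inverted_extended E (by norm_num) A K t
    (by rintro _ ⟨i, hi, rfl⟩; exact hA i hi)
    (by rintro _ ⟨i, hi, rfl⟩; exact gen_pow hok three_pow (by rw [hlen]; exact hi))
    hAA hKk hTK hnorm
  refine ⟨_, hk, fun hd => ?_⟩
  have h6 := pow_dvd_card_gens hp (l := 3) hok three_pow three_comm three_chain
  rw [hlen] at h6
  have h9 : 3 ^ 9 ∣ Nat.card ↥(Subgroup.closure A ⊔ K : Subgroup Co0) := by
    rw [hc, show (3 : ℕ) ^ 9 = 3 ^ 6 * 3 ^ 3 from rfl]
    exact Nat.mul_dvd_mul h6 hKcard
  have := Nat.mul_dvd_mul h9 hd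
  rw [Subgroup.card_mul_index, card_co0] at this
  norm_num at this

end Cfsg.Agent.H40.Co
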