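import Cfsg.Agent.H40.Co.ThreeData
import Cfsg.Agent.H40.Co.Gens

/-!
Kernel checks of the words for the prime 3: orders, inversion, permutations.
-/

set_option autoImplicit false
set_option maxRecDepth 100000

namespace Cfsg.Agent.H40.Co

open Cfsg Cfsg.Agent.Golay Cfsg.Agent.H92.LeechOrbit

theorem three_ok : (okAll threeGens && threeInv.all atomOK && okAll threeTop &&
    threeTbls.all inM24 && threeWits.all (fun p => p.2.2.1.all atomOK) &&
    Nat.beq threeGens.length 6 && Nat.beq threeTop.length 3 && Nat.beq threeLow.length 2) = true := by
  decide +kernel

theorem three_pow : powOK 3 threeGens = true := by decide +kernel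

theorem three_chain : chainOK threeGens threeChain = true := by decide +kernel

theorem three_inv : (eqP [threeInv, threeInv] [] && threeGens.all fun a =>
    eqP [threeInv, a, threeInv] (List.replicate 2 a)) = true := by decide +kernel

theorem three_top : (powOK 3 threeTop && commOK threeLow && chainOK threeTop threeTopChain &&
    threeTop.all fun k => eqP [threeInv, k] [k, threeInv]) = true := by decide +kernel

theorem three_top_conj : ((List.range 2).all fun i =>
    ((threeTblConj.getD i []).all fun x => decide (x < 2)) &&
      conjOK threeLow (nth threeTop 2) (nth threeLow i) (threeTblConj.getD i [])) = true := by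
  decide +kernel

end Cfsg.Agent.H40.Co
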