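import Cfsg.Agent.H40.Co.Signs
import Cfsg.Agent.H94.Mult.Main
import Cfsg.Agent.Golay.Crosses
import Cfsg.Agent.H34.SylCert.Sound

/-!
Co0 has no stem extension with kernel of order two: the monomial subgroup is killed, the signs by
an invariant lift and the permutations because the Mathieu group has trivial multiplier.
-/

set_option autoImplicit false

namespace Cfsg.Agent.H40.Co

open Cfsg Cfsg.Agent.Golay Cfsg.Agent.Linear.Mult
open Cfsg.Agent.H92.LeechTwo (SignSet signs signAut_mul mem_signs signs_comm signs_sq permHom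
  conj_signAut signAut_mem_of_octads card_signs split_crossStab permHom_signs permHom_injective)
open scoped Pointwise commutatorElement symmDiff

section Closure

variable {X : Type} [Group X]

/-- Commuting involutions `L` generate at most `2 ^ L.length` elements. -/
theorem card_closure_le [Finite X] : ∀ L : List X, (∀ x ∈ L, x * x = 1) →
    (∀ x ∈ L, ∀ y ∈ L, x * y = y * x) →
    Nat.card ↥(Subgroup.closure {x | x ∈ L}) ≤ 2 ^ L.length
  | [], _, _ => by simp
  | a :: t, hsq, hcom => by
    set K := Subgroup.closure {x | x ∈ t}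
    have ih : Nat.card ↥K ≤ 2 ^ t.length :=
      card_closure_le t (fun x hx => hsq x (List.mem_cons_of_mem _ hx))
        (fun x hx y hy => hcom x (List.mem_cons_of_mem _ hx) y (List.mem_cons_of_mem _ hy))
    have hK : K ≤ Subgroup.centralizer {a} := (Subgroup.closure_le _).2 fun x hx => by
      rw [SetLike.mem_coe, Subgroup.mem_centralizer_singleton_iff]
      exact hcom x (List.mem_cons_of_mem _ hx) a List.mem_cons_self
    have ha : a * a = 1 := hsq a List.mem_cons_self
    have hainv : a⁻¹ = a := inv_eq_of_mul_eq_one_right ha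
    have hac : ∀ x ∈ K, a * x = x * a := fun x hx =>
      (Subgroup.mem_centralizer_singleton_iff.1 (hK hx)).symm
    let M : Subgroup X :=
      { carrier := {x | x ∈ K ∨ a * x ∈ K}
        one_mem' := Or.inl (one_mem _)
        mul_mem' := by
          rintro x y (hx | hx) (hy | hy)
          · exact Or.inl (mul_mem hx hy)
          · refine Or.inr ?_
            rw [← mul_assoc, hac x hx, mul_assoc]
            exact mul_mem hx hy
          · exact Or.inr (by rw [← mul_assoc]; exact mul_mem hx hy)
          · refine Or.inl ?_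
            have h : x * y = (a * x) * (a * y) := by
              calc x * y = (a * (a * x)) * y := by rw [← mul_assoc a a x, ha, one_mul]
                _ = ((a * x) * a) * y := by rw [hac _ hx]
                _ = _ := mul_assoc _ _ _
            rw [h]
            exact mul_mem hx hy
        inv_mem' := by
          rintro x (hx | hx)
          · exact Or.inl (inv_mem hx)
          · refine Or.inr ?_
            have h : a * x⁻¹ = (a * x)⁻¹ := by
              calc a * x⁻¹ = a * ((a * x)⁻¹ * a) := by group
                _ = a * (a * (a * x)⁻¹) := by rw [← hac _ (inv_mem hx)]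
                _ = _ := by rw [← mul_assoc, ha, one_mul]
            rw [h]
            exact inv_mem hx }
    have hle : Subgroup.closure {x | x ∈ a :: t} ≤ M := (Subgroup.closure_le _).2 fun x hx => by
      rcases List.mem_cons.1 hx with rfl | hx
      · exact Or.inr (by rw [ha]; exact one_mem _)
      · exact Or.inl (Subgroup.subset_closure hx)
    have hM : Nat.card ↥M ≤ 2 * Nat.card ↥K := by
      classical
      let f : ↥M → Bool × ↥K := fun x =>
        if h : x.1 ∈ K then (true, ⟨x.1, h⟩) else (false, ⟨a * x.1, x.2.resolve_left h⟩)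
      have hf : Function.Injective f := by
        intro x y h
        simp only [f] at h
        split_ifs at h <;> simp only [Prod.mk.injEq, Subtype.mk.injEq] at h
        · exact Subtype.ext h.2
        · exact absurd h.1 (by simp)
        · exact absurd h.1 (by simp)
        · exact Subtype.ext (mul_left_cancel h.2)
      refine (Nat.card_le_card_of_injective f hf).trans (le_of_eq ?_)
      rw [Nat.card_prod, Nat.card_eq_fintype_card (α := Bool), Fintype.card_bool]
    calc Nat.card ↥(Subgroup.closure {x | x ∈ a :: t}) ≤ Nat.card ↥M := Subgroup.card_le_of_le hle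
      _ ≤ 2 * Nat.card ↥K := hM
      _ ≤ _ := by rw [List.length_cons, pow_succ']; omega

end Closure

theorem noStem_two_M24 : NoStem 2 M24 := fun Γ _ _ σ hσ h => by
  rw [H50.hasTrivialMultiplier_iff.1 H94.Mult.hasTrivialMultiplier_M24 Γ σ hσ,
    Subgroup.card_bot] at h
  exact absurd h (by norm_num)

theorem commutator_M24 : ⁅(⊤ : Subgroup M24), (⊤ : Subgroup M24)⁆ = ⊤ := by
  haveI := isSimpleGroup_M24
  rcases (inferInstance : (⁅(⊤ : Subgroup M24), (⊤ : Subgroup M24)⁆).Normal).eq_bot_or_eq_top with h | h
  · exfalso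
    have hc : ∀ a b : M24, Commute a b := fun a b => by
      rw [← commutatorElement_eq_one_iff_commute, ← Subgroup.mem_bot, ← h]
      exact Subgroup.commutator_mem_commutator (Subgroup.mem_top a) (Subgroup.mem_top b)
    letI : CommGroup M24 := { (inferInstance : Group M24) with mul_comm := fun a b => hc a b }
    have hp := IsSimpleGroup.prime_card (α := M24)
    rw [card_M24] at hp
    exact absurd hp (by norm_num)
  · exact h

/-- The members of the growing list are octads with lifts in a given subgroup. -/
theorem grow_mem {X : Type} [Group X] {s : Oct → X} {B : Subgroup X}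
    (hadd : ∀ o o', ∀ h : o.1 ∆ o'.1 ∈ octads, (o.1 ∩ o'.1).card = 4 →
      s o * s o' = s (octSum o o' h)) : ∀ (st : List (ℕ × ℕ)) (K : List ℕ), stepsOK K st = true →
    (∀ m ∈ K, ∀ hm : m ∈ octadList, s (octOf m hm) ∈ B) → (∀ m ∈ K, m ∈ octadList) →
    ∀ m ∈ grow K st, ∀ hm : m ∈ octadList, s (octOf m hm) ∈ B
  | [], K, _, hB, _ => hB
  | (i, j) :: r, K, hst, hB, hK => by
    simp only [stepsOK, Bool.and_eq_true, decide_eq_true_eq] at hst
    obtain ⟨⟨⟨⟨hi, hj⟩, h4⟩, hx⟩, hr⟩ := hst
    have hxm := List.contains_iff_mem.1 hx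
    refine grow_mem hadd r _ hr (fun m hm hmo => ?_) (fun m hm => ?_)
    · rcases List.mem_append.1 hm with hm | hm
      · exact hB m hm hmo
      · obtain rfl := List.mem_singleton.1 hm
        have hmi : K.getD i 0 ∈ K := by
          rw [List.getD_eq_getElem _ _ hi]; exact List.getElem_mem _
        have hmj : K.getD j 0 ∈ K := by
          rw [List.getD_eq_getElem _ _ hj]; exact List.getElem_mem _
        set p := octOf _ (hK _ hmi)
        set q := octOf _ (hK _ hmj)
        have hpq : (p.1 ∩ q.1).card = 4 := by
          show (ptSet _ ∩ ptSet _).card = 4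
          rw [← ptSet_and, card_ptSet]
          exact Nat.eq_of_beq_eq_true h4
        have hsum : p.1 ∆ q.1 ∈ octads := by
          show ptSet _ ∆ ptSet _ ∈ octads
          rw [← ptSet_xor]
          exact ptSet_mem_octads hxm
        rw [show octOf _ hmo = octSum p q hsum from Subtype.ext (ptSet_xor _ _), ← hadd p q hsum hpq]
        exact mul_mem (hB _ hmi _) (hB _ hmj _)
    · rcases List.mem_append.1 hm with hm | hm
      · exact hK m hm
      · obtain rfl := List.mem_singleton.1 hm
        exact hxm

/-- In a central extension by a group of order two the monomial subgroup is killed. -/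
theorem killed_crossStab {X : Type} [Group X] [Finite X] (E : LExt 2 X Co0) :
    E.Killed crossStab := by
  classical
  obtain ⟨s, hs, hconj, hadd⟩ := exists_octLift E
  have hsq := octLift_sq hs hconj hadd
  have hcom : ∀ o o', s o * s o' = s o' * s o := fun o o' =>
    (E.commute_of_cm (cm_signs E (sgO_mem o) (sgO_mem o')) (hs o) (hs o')).eq
  -- the invariant lift of the signs
  set A0 := Subgroup.closure (Set.range s) with hA0
  let lifts : List X := basisList.map fun b => if h : b ∈ octadList then s (octOf b h) else 1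
  have hcov : A0 ≤ Subgroup.closure {x | x ∈ lifts} := by
    rw [hA0, Subgroup.closure_le]
    rintro _ ⟨o, rfl⟩
    have hm : maskOf o.1 ∈ octadList := mem_octads_iff.1 o.2
    have hin : maskOf o.1 ∈ grow basisList steps := by
      have h := grow_covers
      rw [List.all_eq_true] at h
      exact List.contains_iff_mem.1 (h _ hm)
    have hB := grow_mem (B := Subgroup.closure {x | x ∈ lifts}) hadd steps basisList steps_ok
      (fun m hmb hmo => Subgroup.subset_closure (by
        show _ ∈ lifts
        exact List.mem_map.2 ⟨m, hmb, by rw [dif_pos hmo]⟩))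
      basis_octads _ hin hm
    rwa [show octOf _ hm = o from Subtype.ext (ptSet_maskOf o.1)] at hB
  have hcard : Nat.card ↥A0 ≤ 4096 := by
    refine (Subgroup.card_le_of_le hcov).trans ((card_closure_le lifts ?_ ?_).trans ?_)
    · intro x hx
      obtain ⟨b, hb, rfl⟩ := List.mem_map.1 hx
      rw [dif_pos (basis_octads b hb)]
      exact hsq _
    · intro x hx y hy
      obtain ⟨b, hb, rfl⟩ := List.mem_map.1 hx
      obtain ⟨c, hc, rfl⟩ := List.mem_map.1 hy
      rw [dif_pos (basis_octads b hb), dif_pos (basis_octads c hc)]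
      exact hcom _ _
    · rw [show lifts.length = 12 from List.length_map _ |>.trans rfl]
      norm_num
  have hA0s : A0.map E.proj = signs := by
    refine le_antisymm ?_ fun g hg => ?_
    · rw [hA0, MonoidHom.map_closure, Subgroup.closure_le]
      rintro _ ⟨_, ⟨o, rfl⟩, rfl⟩
      rw [SetLike.mem_coe, hs]
      exact sgO_mem o
    · obtain ⟨c, rfl⟩ := mem_signs.1 hg
      exact signAut_mem_of_octads (E := A0.map E.proj) (fun o ho =>
        ⟨s ⟨o.1, o.2, ho⟩, Subgroup.subset_closure ⟨_, rfl⟩, hs _⟩) c
  have hA0inj : ∀ a ∈ A0, E.proj a = 1 → a = 1 := by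
    let f : ↥A0 →* ↥(A0.map E.proj) := E.proj.subgroupMap A0
    have hf : Function.Surjective f := E.proj.subgroupMap_surjective A0
    have hc : Nat.card ↥A0 = Nat.card ↥(A0.map E.proj) :=
      le_antisymm (by rw [hA0s, card_signs]; exact hcard) (Nat.card_le_card_of_surjective f hf)
    have hb : Function.Bijective f := (Nat.bijective_iff_surjective_and_card f).2 ⟨hf, hc⟩
    intro a ha h
    exact congrArg Subtype.val (hb.1 (a₁ := ⟨a, ha⟩) (a₂ := 1) (Subtype.ext (by
      rw [map_one]; exact h)))
  -- the killed lift of the permutations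
  set P : Subgroup Co0 := permHom.range with hP
  haveI : Finite M24 := inferInstance
  have hPk : E.Killed P := E.killed_of_noStem noStem_two_M24 permHom permHom_injective
  set D := ⁅E.pre P, E.pre P⁆ with hD
  have hDP : D.map E.proj = P := by
    rw [hD, Subgroup.map_commutator, E.map_pre, hP, MonoidHom.range_eq_map, ← Subgroup.map_commutator,
      commutator_M24]
  have hnorm : D ≤ Subgroup.normalizer (A0 : Set X) := by
    intro d hd
    have hfix : ∀ y τ, E.proj y = permHom τ → A0 ≤ A0.comap (MulAut.conj y).toMonoidHom := by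
      intro y τ hy
      rw [hA0, Subgroup.closure_le]
      rintro _ ⟨o, rfl⟩
      rw [SetLike.mem_coe, Subgroup.mem_comap]
      show y * s o * y⁻¹ ∈ Subgroup.closure (Set.range s)
      rw [hconj y τ hy o]
      exact Subgroup.subset_closure ⟨_, rfl⟩
    obtain ⟨τ, hτ⟩ : E.proj d ∈ P := Subgroup.commutator_le_self (E.pre P) hd
    rw [Subgroup.mem_normalizer_iff]
    intro a
    refine ⟨fun ha => hfix d τ hτ.symm ha, fun ha => ?_⟩
    have h' : d⁻¹ * (d * a * d⁻¹) * d⁻¹⁻¹ ∈ A0 :=
      hfix d⁻¹ τ⁻¹ (by rw [map_inv, ← hτ, map_inv]) ha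
    have e : d⁻¹ * (d * a * d⁻¹) * d⁻¹⁻¹ = a := by group
    rwa [e] at h'
  have hprod : ∀ x ∈ E.pre crossStab, ∃ h ∈ A0 ⊔ D, ∃ z, E.proj z = 1 ∧ x = h * z := by
    intro x hx
    obtain ⟨a, ha, σ, he⟩ := split_crossStab (show E.proj x ∈ crossStab from hx)
    obtain ⟨a', ha', hae⟩ : a ∈ A0.map E.proj := hA0s.symm ▸ ha
    obtain ⟨d, hd, hde⟩ : permHom σ ∈ D.map E.proj := hDP.symm ▸ ⟨σ, rfl⟩
    exact ⟨a' * d, Subgroup.mul_mem_sup ha' hd, (a' * d)⁻¹ * x,
      by rw [map_mul, map_inv, map_mul, hae, hde, he, inv_mul_cancel],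
      (mul_inv_cancel_left _ _).symm⟩
  intro z hz hz1
  have hzH : z ∈ A0 ⊔ D := by
    have hle : ⁅E.pre crossStab, E.pre crossStab⁆ ≤ A0 ⊔ D := by
      rw [Subgroup.commutator_le]
      intro x hx y hy
      obtain ⟨h, hh, u, hu, rfl⟩ := hprod x hx
      obtain ⟨k, hk, v, hv, rfl⟩ := hprod y hy
      rw [commutatorElement_def, H34.SylCert.comm_mul_central (E.ker_central hu) (E.ker_central hv)]
      exact mul_mem (mul_mem (mul_mem hh hk) (inv_mem hh)) (inv_mem hk)
    exact hle hz
  rw [← SetLike.mem_coe, Subgroup.coe_mul_of_right_le_normalizer_left A0 D hnorm] at hzH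
  obtain ⟨a, ha, d, hd, rfl⟩ := hzH
  rw [map_mul] at hz1
  have has : E.proj a ∈ signs := hA0s ▸ ⟨a, ha, rfl⟩
  obtain ⟨σ, hσ⟩ : E.proj d ∈ P := Subgroup.commutator_le_self (E.pre P) hd
  have hσ1 : σ = 1 := permHom_signs (by
    rw [hσ, eq_inv_of_mul_eq_one_right hz1]
    exact inv_mem has)
  rw [hσ1, map_one] at hσ
  rw [← hσ, mul_one] at hz1
  show a * d = 1
  rw [hA0inj a ha hz1, hPk d hd hσ.symm, one_mul]

/-- Co0 has no stem extension with kernel of order two. -/
theorem noStem_two : NoStem 2 Co0 :=
  noStem_of_killed Nat.prime_two fun Γ _ _ E => ⟨crossStab, killed_crossStab E, fun h => by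
    have hc := Subgroup.card_mul_index crossStab
    rw [card_crossStab, card_co0] at hc
    omega⟩

end Cfsg.Agent.H40.Co
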