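import Cfsg.Agent.H40.Co.Fast
import Cfsg.Agent.Golay.CoTwoOut
import Cfsg.Agent.H92.CrossGroup

/-!
Equations between words in monomial and sextet steps, and sets of vectors preserved by them.
-/

set_option autoImplicit false

namespace Cfsg.Agent.H40.Co

open Cfsg Cfsg.Agent.Golay Cfsg.Agent.H92.LeechOrbit
open Cfsg.Agent.Golay.CoTwo (genCodes eq_one_of_gens wordEl_append)

/-- Two words have equal images of the lattice generators. -/
noncomputable def eqW (X Y : List Atom) : Bool :=
  genCodes.all fun n => goodW X n && goodW Y n && Nat.beq (runW X n) (runW Y n)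

theorem eq_of_eqW {X Y : List Atom} (hX : X.all atomOK = true) (hY : Y.all atomOK = true)
    (h : eqW X Y = true) : wordEl X = wordEl Y := by
  refine (inv_mul_eq_one.1 (eq_one_of_gens fun n hn v hv => ?_)).symm
  have hn' := List.all_eq_true.1 h n hn
  simp only [Bool.and_eq_true] at hn'
  have h1 := goodW_sound hX hn'.1.1 hv
  have h2 := goodW_sound hY hn'.1.2 hv
  rw [Nat.eq_of_beq_eq_true hn'.2] at h1
  rw [mul_smul, inv_smul_eq_iff]
  exact Subtype.ext (h1.trans h2.symm)

/-- The word of a product. -/
def cat (L : List (List Atom)) : List Atom := L.reverse.flatten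

theorem wordEl_cat : ∀ L : List (List Atom), wordEl (cat L) = (L.map wordEl).prod
  | [] => rfl
  | a :: r => by
    rw [List.map_cons, List.prod_cons, ← wordEl_cat r, cat, List.reverse_cons,
      List.flatten_append, wordEl_append, List.flatten_singleton]
    rfl

/-- An equation between products. -/
noncomputable def eqP (L M : List (List Atom)) : Bool := eqW (cat L) (cat M)

theorem eq_of_eqP {L M : List (List Atom)} (hL : ∀ w ∈ L, w.all atomOK = true)
    (hM : ∀ w ∈ M, w.all atomOK = true) (h : eqP L M = true) :
    (L.map wordEl).prod = (M.map wordEl).prod := by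
  rw [← wordEl_cat, ← wordEl_cat]
  refine eq_of_eqW ?_ ?_ h <;> simp only [cat, List.all_eq_true, List.mem_flatten, List.mem_reverse]
  · rintro a ⟨w, hw, ha⟩; exact List.all_eq_true.1 (hL w hw) a ha
  · rintro a ⟨w, hw, ha⟩; exact List.all_eq_true.1 (hM w hw) a ha

/-- The elements carrying the vectors of a list of codes to such vectors. -/
noncomputable def setFixes (S : List ℕ) : Subgroup Co0 :=
  letI M : Submonoid Co0 :=
    { carrier := {g | ∀ n ∈ S, ∀ v : leechLattice, v.1 = dec n →
        ∃ m ∈ S, (g • v : leechLattice).1 = dec m}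
      one_mem' := fun n hn v hv => ⟨n, hn, by rw [one_smul, hv]⟩
      mul_mem' := by
        intro g h hg hh n hn v hv
        obtain ⟨m, hm, e⟩ := hh n hn v hv
        obtain ⟨k, hk, e'⟩ := hg m hm _ e
        exact ⟨k, hk, by rw [mul_smul, e']⟩ }
  { M with
    inv_mem' := fun {g} hg => by
      have h : g⁻¹ = g ^ (orderOf g - 1) := by
        refine inv_eq_of_mul_eq_one_right ?_
        rw [← pow_succ', show orderOf g - 1 + 1 = orderOf g from
          Nat.sub_add_cancel (orderOf_pos g), pow_orderOf_eq_one]
      rw [h]
      exact M.pow_mem hg _ }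

/-- A word preserves the list. -/
noncomputable def keepS (w : List Atom) (S : List ℕ) : Bool :=
  S.all fun n => S.contains (runW w n) && goodW w n

/-- Codes are separated by a field. -/
def apart (m k : ℕ) : Bool := (List.range 24).any fun i => !(Nat.beq (fld m i) (fld k i))

/-- A word moves the first vector of the list out of it. -/
noncomputable def moveS (w : List Atom) (S : List ℕ) : Bool :=
  match S with
  | [] => false
  | n :: _ => inLeech (dec n) && goodW w n && S.all fun k => apart (runW w n) k

theorem mem_setFixes {w : List Atom} {S : List ℕ} (hw : w.all atomOK = true)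
    (h : keepS w S = true) : wordEl w ∈ setFixes S := by
  intro n hn v hv
  have h' := List.all_eq_true.1 h n hn
  rw [Bool.and_eq_true] at h'
  exact ⟨_, List.contains_iff_mem.1 h'.1, goodW_sound hw h'.2 hv⟩

theorem notMem_setFixes {w : List Atom} {S : List ℕ} (hw : w.all atomOK = true)
    (h : moveS w S = true) : wordEl w ∉ setFixes S := by
  cases S with
  | nil => exact absurd h (by simp [moveS])
  | cons n r =>
    simp only [moveS, Bool.and_eq_true, List.all_eq_true, apart, List.any_eq_true, List.mem_range,
      Bool.not_eq_true'] at h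
    obtain ⟨⟨hin, hc⟩, hap⟩ := h
    intro hmem
    obtain ⟨m, hm, e⟩ := hmem n List.mem_cons_self ⟨dec n, mem_of_inLeech hin⟩ rfl
    obtain ⟨i, hi, hne⟩ := hap m hm
    have h2 := congrFun ((goodW_sound hw hc (v := ⟨dec n, mem_of_inLeech hin⟩) rfl).symm.trans e) (pt i)
    simp only [dec, idx_pt i hi] at h2
    rw [show fld (runW w n) i = fld m i by omega] at hne
    rw [Nat.beq_refl] at hne
    exact absurd hne (by simp)

end Cfsg.Agent.H40.Co
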